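import Cfsg.Agent.Mrg.Omega.OM.SwapL.Off


/-!
# THEOREM SW over an abstract frame: the pairs `(T, F)`

`(K, B, Z_J)` : `LB S K B ZJ`, `B` weakly closed (`K = J(S)`, or a level). `V ≥ Z_J` an arbitrary group in `B` with the
blocks `L i` over `B`, modules `W i ≤ V` (four groups), `Z i = C_(W i)(B)`, complements `C i`. No parabolic, no `HypN`.

* `Pair K B V ZJ M T F` : the pairs of STEP 0; `Cr S K B V ZJ L W Z C` : the ground frame (24 fields);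
* `Cr.perm`, `eq_of_supp`, `exists_supp`, `comm_of_supp` : `N_G(B)` permutes the triples `(W i, Z i, Z_J ∩ C i)`;
* `BM S K B M` : minimal parabolics `Y` over a 2-group `T ≥ B` with `K ≰ O₂(Y)`, `[Ω₁Z(T), Y] ≠ 1` lie in `M`;
* `Cr.exists_pairH`, `exists_pair` : a pair inside every subgroup of characteristic 2 over `B` not contained in `M`.
-/

set_option autoImplicit false

namespace Cfsg.Agent.Omega.OM.SwapV

open Subgroup Cfsg Cfsg.Agent.ZN.ChoiceBase Cfsg.Agent.ZN.ChoiceSit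
open Cfsg.Agent.ZN (jj zj bau zc zl o2)
open Cfsg.Agent.MinSimple.MinParabolic (IsMinPar)
open Cfsg.Agent.MinSimple.VModule (oddGen oddGen_le)
open Cfsg.Agent.Omega.OM.LevD (LB)
open Cfsg.Agent.Omega.OM.Uni (FB)
open Cfsg.Agent.Omega.OM.UniPlus (NB)
open Cfsg.Agent.Omega.OM.WeakCl (WC)
open Cfsg.Agent.Omega.OM.Swap.Fam (Fm)
open Cfsg.Agent.Omega.OM.SwapL (cj_mul_eq cj_inv_eq Phi SitFFalse)

universe u

variable {G : Type u} [Group G] [Finite G]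

/-- The minimal parabolics `Y` over `T ≥ B` which centralise `Ω₁Z(T)` and do not normalise `K`. -/
structure Quiet (K B T Y : Subgroup G) : Prop where
  syl : Syl T Y
  BT : B ≤ T
  min : IsMinPar T Y
  c2 : Y ⊓ centralizer (o2 Y : Set G) ≤ o2 Y
  nK : ¬ K ≤ o2 Y
  cz : Y ≤ centralizer (zc T : Set G)

/-- The pairs `(T, F)` of STEP 0. -/
structure Pair (K B V ZJ M T F : Subgroup G) : Prop where
  syl : Syl T F
  BT : B ≤ T
  nM : ¬ F ≤ M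
  min : ∀ R : Subgroup G, T ≤ R → R < F → R ≤ M
  VO : V ≤ o2 F
  fix : ZJ ⊓ centralizer (o2 F : Set G) ≤ centralizer (F : Set G)
  org : ∃ T₀ Y : Subgroup G, Quiet K B T₀ Y ∧ ¬ Y ≤ M ∧ F ≤ Y ∧ o2 Y ≤ o2 F

/-- Minimal parabolics over `T ≥ B` which move `Ω₁Z(T)` and do not normalise `K` lie in `M`. -/
def BM (K B M : Subgroup G) : Prop :=
  ∀ T Y : Subgroup G, Syl T Y → B ≤ T → IsMinPar T Y →
    Y ⊓ centralizer (o2 Y : Set G) ≤ o2 Y → ¬ K ≤ o2 Y → ¬ Y ≤ centralizer (zc T : Set G) → Y ≤ M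

/-- `BM` for the minimal parabolics inside `H`. -/
def BMH (K B M H : Subgroup G) : Prop :=
  ∀ T Y : Subgroup G, Syl T Y → B ≤ T → IsMinPar T Y → Y ≤ H →
    Y ⊓ centralizer (o2 Y : Set G) ≤ o2 Y → ¬ K ≤ o2 Y → ¬ Y ≤ centralizer (zc T : Set G) → Y ≤ M

/-- The members of the family `𝓐` of a pair. -/
structure PF {ι : Type} (B V T F : Subgroup G) (W : ι → Subgroup G) (𝓐 : Set (Subgroup G)) : Prop where
  fam : ∀ Λ : Subgroup G, IsElementaryAbelian 2 Λ → Λ ≤ F → F ≤ normalizer (Λ : Set G) →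
    Λ ≤ NoFF.Basic.V V F → Fm F Λ 𝓐
  nJ : ∃ X ∈ 𝓐, X ≤ T ∧ ¬ X ≤ o2 F
  XB : ∀ X ∈ 𝓐, X ≤ T → X ≤ B
  hat : ∀ X ∈ 𝓐, X ≤ T → ∀ i, (∃ a ∈ X, ∃ x ∈ W i, a * x ≠ x * a) →
    ∃ a ∈ X, (∃ x ∈ W i, a * x ≠ x * a) ∧ ∀ j, j ≠ i → ∀ x ∈ W j, a * x = x * a

/-- The ground frame, `q = 2`. -/
structure Cr {ι : Type} (S : Sylow 2 G) (K B V ZJ : Subgroup G) (L W Z C : ι → Subgroup G) : Prop where
  lb : LB S K B ZJ
  wc : WC B
  zcS : zc (S : Subgroup G) ≤ ZJ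
  zcB : zc B = ZJ
  blk : ∀ i, FB B (L i) (W i) (Z i) 2
  cardZ : ∀ i, Nat.card (Z i) = 2
  el : IsElementaryAbelian 2 V
  VB : V ≤ B
  ZJV : ZJ ≤ V
  WV : ∀ i, W i ≤ V
  CV : ∀ i, C i ≤ V
  dir : ∀ i, W i ⊓ C i = ⊥
  C0 : ∀ x ∈ V, (∀ i, x ∈ C i) → x = 1
  WjC : ∀ i j, i ≠ j → W j ≤ C i
  split : ∀ i, ∀ z ∈ ZJ, ∃ w ∈ Z i, ∃ c ∈ C i, c ∈ ZJ ∧ z = w * c
  LC : ∀ i, ∀ l ∈ L i, ∀ z ∈ ZJ, z ∈ C i → l * z = z * l
  mov : ∀ i, ∃ a ∈ B, (∃ v ∈ W i, a * v ≠ v * a) ∧ ∀ c ∈ C i, a * c = c * a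
  conjZ : ∀ (r : Set ι) (x : G), x ∈ ⨆ i ∈ r, W i → ∃ g ∈ ⨆ i ∈ r, L i, g * x * g⁻¹ ∈ ⨆ i ∈ r, Z i
  norm : ∀ g ∈ normalizer (B : Set G), cj g V = V ∧
    ∀ i, ∃ j, cj g (Z i) = Z j ∧ cj g (W i) ≤ W j ⊔ ZJ
  char2 : IsCharacteristicTwoType G
  low : V ≤ o2 (centralizer (zc (S : Subgroup G) : Set G))
  noff : ∀ T : Subgroup G, IsPGroup 2 T → B ≤ T → ∀ f : G, cj f V ≤ T → V ≤ cj f T →
    ∀ x ∈ V, ∀ y ∈ V, x * (f * y * f⁻¹) = f * y * f⁻¹ * x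
  fixPt : ∀ T Y : Subgroup G, Quiet K B T Y → ZJ ⊓ zc (o2 Y) ≤ centralizer (oddGen Y : Set G)
  fam : ∀ M T F : Subgroup G, Pair K B V ZJ M T F → centralizer (ZJ : Set G) ≤ M →
    normalizer (ZJ : Set G) ≤ M → T ≤ M → ∃ 𝓐 : Set (Subgroup G), PF B V T F W 𝓐

namespace Cr

variable {ι : Type} {S : Sylow 2 G} {K B V ZJ : Subgroup G} {L W Z C : ι → Subgroup G}

theorem nb (h : Cr S K B V ZJ L W Z C) (i : ι) : NB B (L i) (W i) (Z i) 2 := ⟨h.blk i, h.cardZ i⟩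

theorem Vc (h : Cr S K B V ZJ L W Z C) {v w : G} (hv : v ∈ V) (hw : w ∈ V) : v * w = w * v :=
  SQ1.Bau.elem_comm h.el v hv w hw

theorem ZV (h : Cr S K B V ZJ L W Z C) (i : ι) : Z i ≤ V := (h.blk i).ZV.trans (h.WV i)

theorem Z_le (h : Cr S K B V ZJ L W Z C) (i : ι) : Z i ≤ ZJ := fun z hz => by
  rw [← h.zcB]
  refine mem_zc.2 ⟨h.VB (h.ZV i hz), ?_, fun b hb => (h.blk i).cZ b hb z hz⟩
  exact SQ1.Bau.elem_sq h.el z (h.ZV i hz)

theorem mem_C_iff (h : Cr S K B V ZJ L W Z C) {i : ι} {z : G} (hz : z ∈ ZJ) :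
    z ∈ C i ↔ ∀ l ∈ L i, l * z = z * l := by
  constructor
  · exact fun hc l hl => h.LC i l hl z hz hc
  · intro hL
    obtain ⟨w, hw, c, hc, hcJ, e⟩ := h.split i z hz
    have h1 : w = 1 := by
      refine (nb h i).cent hw fun l hl => ?_
      have h2 := hL l hl
      have h3 := h.LC i l hl c hcJ hc
      have e1 : w = z * c⁻¹ := by rw [e]; group
      have c1 : Commute l z := h2
      have c2 : Commute l c := h3
      rw [e1]
      exact (c1.mul_right c2.inv_right).eq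
    rw [e, h1, one_mul]
    exact hc

theorem norm_le (h : Cr S K B V ZJ L W Z C) : normalizer (B : Set G) ≤ normalizer (V : Set G) := fun g hg => by
  rw [mem_normalizer_iff_cj]
  exact (h.norm g hg).1

/-- `N_G(B)` permutes the triples `(W i, Z i, Z_J ∩ C i)`. -/
theorem perm (h : Cr S K B V ZJ L W Z C) {g : G} (hg : g ∈ normalizer (B : Set G)) (i : ι) :
    ∃ j, cj g (Z i) = Z j ∧ cj g (W i) = W j ∧ ∀ z ∈ ZJ, (g * z * g⁻¹ ∈ C j ↔ z ∈ C i) := by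
  have hN := (nb h i).conj g
  rw [cj_eq_of_mem_normalizer hg] at hN
  obtain ⟨j, hZ, hW⟩ := (h.norm g hg).2 i
  rw [hZ] at hN
  rw [← h.zcB] at hW
  have hB2 : IsPGroup 2 B := h.lb.Bp
  obtain ⟨h1, h2, -⟩ := UniPlus.uni_two h.wc hB2 (nb h j) hN hW
  obtain ⟨-, h3, -⟩ := UniPlus.uni_two h.wc hB2 hN (nb h j) (h1.ge.trans le_sup_left)
  refine ⟨j, hZ, h1, fun z hz => ?_⟩
  have hz' : g * z * g⁻¹ ∈ ZJ := by
    have h4 := cj_eq_of_mem_normalizer (h.lb.norm_B_le hg)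
    rw [← h4]
    exact ⟨z, hz, rfl⟩
  have hzc : g * z * g⁻¹ ∈ zc B := by rw [h.zcB]; exact hz'
  rw [mem_C_iff h hz', mem_C_iff h hz]
  constructor
  · intro h4 l hl
    have h5 := h2 _ hzc h4 (g * l * g⁻¹) ⟨l, hl, rfl⟩
    have h6 := congrArg (fun t => g⁻¹ * t * g) h5
    simpa [mul_assoc] using h6
  · intro h4
    refine h3 _ hzc fun l hl => ?_
    have h5 := h4 _ (mem_cj.1 hl)
    have h6 := congrArg (fun t => g * t * g⁻¹) h5
    simpa [mul_assoc] using h6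

theorem Z_ne (h : Cr S K B V ZJ L W Z C) (i : ι) : ∃ z ∈ Z i, z ≠ 1 := by
  have h1 : 1 < Nat.card (Z i) := by rw [h.cardZ i]; norm_num
  have : Nontrivial (Z i) := Finite.one_lt_card_iff_nontrivial.1 h1
  obtain ⟨z, hz⟩ := exists_ne (1 : Z i)
  exact ⟨z, z.2, fun h => hz (Subtype.ext h)⟩

theorem Z_W (h : Cr S K B V ZJ L W Z C) (i : ι) : Z i ≤ W i := (h.blk i).ZV

theorem not_mem_C (h : Cr S K B V ZJ L W Z C) {i : ι} {z : G} (hz : z ∈ Z i) (h1 : z ≠ 1) : z ∉ C i := by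
  intro hc
  have h2 : z ∈ W i ⊓ C i := mem_inf.2 ⟨Z_W h i hz, hc⟩
  rw [h.dir i, mem_bot] at h2
  exact h1 h2

theorem Z_C (h : Cr S K B V ZJ L W Z C) {i j : ι} (hij : i ≠ j) : Z j ≤ C i := (Z_W h j).trans (h.WjC i j hij)

/-- `Z` is injective. -/
theorem Z_inj (h : Cr S K B V ZJ L W Z C) {i j : ι} (e : Z i = Z j) : i = j := by
  by_contra hne
  obtain ⟨z, hz, hz1⟩ := Z_ne h i
  exact not_mem_C h hz hz1 (Z_C h hne (e ▸ hz))

theorem Z_eq (h : Cr S K B V ZJ L W Z C) {i : ι} {x y : G} (hx : x ∈ Z i) (hy : y ∈ Z i) (hx1 : x ≠ 1)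
    (hy1 : y ≠ 1) : x = y := UniPlus.eq_of_card_two (h.cardZ i) hx hy hx1 hy1

/-- If `g` normalises `Z i` it centralises it. -/
theorem cent_of_cj (h : Cr S K B V ZJ L W Z C) {i : ι} {g : G} (e : cj g (Z i) = Z i) {z : G} (hz : z ∈ Z i) :
    g * z = z * g := by
  by_cases h1 : z = 1
  · rw [h1]; simp
  have h2 : g * z * g⁻¹ ∈ Z i := by rw [← e]; exact ⟨z, hz, rfl⟩
  have h3 := Z_eq h h2 hz (fun h3 => h1 (by simpa using h3)) h1
  exact mul_inv_eq_iff_eq_mul.1 h3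

/-- If `g` moves `Z i` to `Z j` it moves the generator to the generator. -/
theorem conj_gen (h : Cr S K B V ZJ L W Z C) {i j : ι} {g : G} (e : cj g (Z i) = Z j) {z w : G} (hz : z ∈ Z i)
    (h1 : z ≠ 1) (hw : w ∈ Z j) (h2 : w ≠ 1) : g * z * g⁻¹ = w :=
  Z_eq h (by rw [← e]; exact ⟨z, hz, rfl⟩) hw (fun h3 => h1 (by simpa using h3)) h2

/-- An element of `Z_J` is determined by its support. -/
theorem eq_of_supp (h : Cr S K B V ZJ L W Z C) {x y : G} (hx : x ∈ ZJ)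
    (hy : y ∈ ZJ) (hs : ∀ i, x ∈ C i ↔ y ∈ C i) : x = y := by
  have hxV := h.ZJV hx
  have hyV := h.ZJV hy
  have h1 : x * y⁻¹ = 1 := by
    refine h.C0 _ (mul_mem hxV (inv_mem hyV)) fun i => ?_
    by_cases hxi : x ∈ C i
    · exact mul_mem hxi (inv_mem ((hs i).1 hxi))
    have hyi : y ∉ C i := fun hc => hxi ((hs i).2 hc)
    obtain ⟨w, hw, c, hc, -, e⟩ := h.split i x hx
    obtain ⟨w', hw', c', hc', -, e'⟩ := h.split i y hy
    have hw1 : w ≠ 1 := by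
      rintro rfl
      exact hxi (by rw [e, one_mul]; exact hc)
    have hw1' : w' ≠ 1 := by
      rintro rfl
      exact hyi (by rw [e', one_mul]; exact hc')
    have h2 := Z_eq h hw hw' hw1 hw1'
    have h3 : w * c = c * w := h.Vc (h.ZV i hw) (h.CV i hc)
    have h4 : w * c' = c' * w := h.Vc (h.ZV i hw) (h.CV i hc')
    have e1 : x * y⁻¹ = c * c'⁻¹ := by
      rw [e, e', ← h2, h3, h4]; group
    rw [e1]
    exact mul_mem hc (inv_mem hc')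
  exact mul_inv_eq_one.1 h1

/-- The support of a conjugate under `N_G(B)`. -/
theorem supp_cj (h : Cr S K B V ZJ L W Z C) {g : G} (hg : g ∈ normalizer (B : Set G)) {i j : ι}
    (e : cj g (Z i) = Z j) {z : G} (hz : z ∈ ZJ) : g * z * g⁻¹ ∈ C j ↔ z ∈ C i := by
  obtain ⟨k, h1, -, h2⟩ := perm h hg i
  have h3 : j = k := Z_inj h (e.symm.trans h1)
  rw [h3]
  exact h2 z hz

theorem W_cj (h : Cr S K B V ZJ L W Z C) {g : G} (hg : g ∈ normalizer (B : Set G)) {i j : ι}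
    (e : cj g (Z i) = Z j) : cj g (W i) = W j := by
  obtain ⟨k, h1, h2, -⟩ := perm h hg i
  have h3 : j = k := Z_inj h (e.symm.trans h1)
  rw [h3]
  exact h2

theorem ZJ_cj_mem (h : Cr S K B V ZJ L W Z C) {g : G} (hg : g ∈ normalizer (B : Set G)) {z : G}
    (hz : z ∈ ZJ) : g * z * g⁻¹ ∈ ZJ := by
  have h3 := cj_eq_of_mem_normalizer (h.lb.norm_B_le hg)
  rw [← h3]
  exact ⟨z, hz, rfl⟩

/-- `g ∈ N_G(B)` centralises `z ∈ Z_J` if it stabilises its support. -/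
theorem comm_of_supp (h : Cr S K B V ZJ L W Z C) {g : G} (hg : g ∈ normalizer (B : Set G)) {z : G}
    (hz : z ∈ ZJ) (hs : ∀ i j, cj g (Z i) = Z j → (z ∈ C i ↔ z ∈ C j)) : g * z = z * g := by
  have h1 : g * z * g⁻¹ = z := by
    refine eq_of_supp h (ZJ_cj_mem h hg hz) hz fun j => ?_
    obtain ⟨i, hi, -, -⟩ := perm h (inv_mem hg) j
    have e : cj g (Z i) = Z j := by
      have := cj_inv_eq hi
      rwa [inv_inv] at this
    rw [supp_cj h hg e hz]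
    exact hs i j e
  exact mul_inv_eq_iff_eq_mul.1 h1

/-- Every subset of the index set is a support. -/
theorem exists_supp [Finite ι] (h : Cr S K B V ZJ L W Z C) (s : Set ι) :
    ∃ x ∈ ZJ, ∀ i, (x ∈ C i ↔ i ∉ s) := by
  classical
  have : Fintype ι := Fintype.ofFinite ι
  suffices H : ∀ t : Finset ι, ∃ x ∈ ZJ, ∀ i, (x ∈ C i ↔ i ∉ t) by
    obtain ⟨x, hx, hs⟩ := H s.toFinset
    exact ⟨x, hx, fun i => by rw [hs i, Set.mem_toFinset]⟩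
  intro t
  induction t using Finset.induction_on with
  | empty => exact ⟨1, one_mem _, fun i => by simp [one_mem]⟩
  | insert j t hj ih =>
    obtain ⟨x, hx, hs⟩ := ih
    obtain ⟨z, hz, hz1⟩ := Z_ne h j
    refine ⟨x * z, mul_mem hx (h.Z_le j hz), fun i => ?_⟩
    by_cases hij : i = j
    · subst hij
      have h1 : x ∈ C i := (hs i).2 hj
      constructor
      · intro h2
        exact absurd ((Subgroup.mul_mem_cancel_left _ h1).1 h2) (not_mem_C h hz hz1)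
      · intro h2
        exact absurd (Finset.mem_insert_self i t) h2
    · have h1 : z ∈ C i := Z_C h hij hz
      rw [Subgroup.mul_mem_cancel_right _ h1, hs i, Finset.mem_insert, not_or]
      exact ⟨fun h2 => ⟨hij, h2⟩, fun h2 => h2.2⟩

/-! ### 2-groups over `B` -/

/-- **(F1)** a conjugate of `B` inside `M` is a conjugate by an element of `M`. -/
theorem mem_of_cj_B_le (h : Cr S K B V ZJ L W Z C) {M : Subgroup G} (hSM : (S : Subgroup G) ≤ M)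
    (hN : normalizer (B : Set G) ≤ M) {g : G} (h0 : cj g B ≤ M) : g ∈ M := by
  have hS : Syl (S : Subgroup G) M := ⟨hSM, S.isPGroup', fun Q _ hQ hle => S.is_maximal' hQ hle⟩
  have h2 : IsPGroup 2 (cj g B) := isPGroup_cj g h.lb.Bp
  obtain ⟨T, hT, hle⟩ := exists_syl h2 h0
  obtain ⟨m, hm, rfl⟩ := syl_conj hS hT
  have h3 : cj (m⁻¹ * g) B ≤ (S : Subgroup G) := by
    have := cj_mono m⁻¹ hle
    rwa [cj_inv_cj, cj_cj] at this
  have h4 := h.wc _ S.isPGroup' h.lb.BS _ h3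
  have h5 : m⁻¹ * g ∈ M := hN (mem_normalizer_iff_cj.2 h4)
  have h6 := mul_mem hm h5
  rwa [mul_inv_cancel_left] at h6

/-- a 2-group over `B` normalises `V`. -/
theorem two_norm (h : Cr S K B V ZJ L W Z C) {T : Subgroup G} (hT : IsPGroup 2 T)
    (hB : B ≤ T) : T ≤ normalizer (V : Set G) :=
  (h.lb.two_le hT hB).trans h.norm_le

/-- `V ≤ O₂(Y)` if `Y` centralises `Ω₁(Z(T))`, `B ≤ T ≤ Y`. -/
theorem V_le_o2 (h : Cr S K B V ZJ L W Z C) {T Y : Subgroup G} (hT : IsPGroup 2 T)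
    (hB : B ≤ T) (hTY : T ≤ Y) (hY : Y ≤ centralizer (zc T : Set G)) : V ≤ o2 Y := by
  obtain ⟨S', hS'⟩ := hT.exists_le_sylow
  obtain ⟨g, hg⟩ := MulAction.exists_smul_eq G S S'
  have hg2 : (S' : Subgroup G) = cj g (S : Subgroup G) := by
    rw [← hg, Sylow.coe_subgroup_smul]
    rfl
  have hgN : g ∈ normalizer (B : Set G) := by
    have h1 : cj g⁻¹ B ≤ (S : Subgroup G) := by
      have := cj_mono g⁻¹ ((hB.trans hS').trans hg2.le)
      rwa [cj_inv_cj] at this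
    have h2 := h.wc _ S.isPGroup' h.lb.BS _ h1
    have h3 := inv_mem (mem_normalizer_iff_cj.2 h2)
    rwa [inv_inv] at h3
  have h3 : zc (S' : Subgroup G) ≤ zc T := by
    intro z hz
    have h4 : z ∈ T := by
      rw [hg2, NO3S.Level.zc_cj] at hz
      have h6 := cj_mono g h.zcS hz
      rw [cj_eq_of_mem_normalizer (h.lb.norm_B_le hgN)] at h6
      exact hB (h.lb.ZB h6)
    obtain ⟨h5, h6, h7⟩ := mem_zc.1 hz
    exact mem_zc.2 ⟨h4, h6, fun y hy => h7 y (hS' hy)⟩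
  have h4 : Y ≤ centralizer (zc (S' : Subgroup G) : Set G) := hY.trans (centralizer_le h3)
  have h5 : V ≤ o2 (centralizer (zc (S' : Subgroup G) : Set G)) := by
    have h6 := cj_mono g h.low
    rw [(h.norm g hgN).1, ← pCore_cj, cj_centralizer, ← LemmaK.Main.zc_cj, ← hg2] at h6
    exact h6
  have h6 : V ≤ o2 (centralizer (zc (S' : Subgroup G) : Set G)) ⊓ Y :=
    le_inf h5 ((h.VB.trans hB).trans hTY)
  refine h6.trans (le_o2 ((isPGroup_o2 _).to_le inf_le_left) inf_le_right ?_)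
  intro y hy
  rw [mem_normalizer_iff_cj, cj_inf, cj_eq_of_mem_normalizer (le_normalizer_o2 _ (h4 hy)),
    cj_eq_of_mem_normalizer (le_normalizer hy)]

/-- `LevB.genM` with the weak fixed point property. -/
theorem genM (h : Cr S K B V ZJ L W Z C) {M T H : Subgroup G} (hD : centralizer (ZJ : Set G) ≤ M)
    (hN : normalizer (B : Set G) ≤ M) (hT : Syl T H) (hBT : B ≤ T)
    (hc : H ⊓ centralizer (o2 H : Set G) ≤ o2 H)
    (hblk : ∀ Y : Subgroup G, IsMinPar T Y → Y ≤ H → ¬ K ≤ o2 Y → ¬ Y ≤ centralizer (zc T : Set G) → Y ≤ M) :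
    H ≤ (H ⊓ M) ⊔ ⨆ Y : {Y : Subgroup G // IsMinPar T Y ∧ Y ≤ H ∧ ¬ K ≤ o2 Y ∧
      Y ≤ centralizer (zc T : Set G) ∧ ¬ o2 Y ≤ B}, (Y : Subgroup G) := by
  have hB := h.lb
  have hZM : normalizer (ZJ : Set G) ≤ M := hB.norm_zj_le.trans (sup_le hD hN)
  have hTN : normalizer (T : Set G) ≤ M := (hB.nrm T hT.2.1 (hB.KB.trans hBT)).trans hZM
  have hTM : T ≤ M := le_normalizer.trans hTN
  refine MinSimple.MinParabolic.le_of_forall hT.1 ?_ fun Y hY hYH => ?_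
  · exact le_sup_of_le_left (inf_le_inf_left _ hTN)
  have hcase : Y ≤ M → Y ≤ (H ⊓ M) ⊔ ⨆ Y : {Y : Subgroup G // IsMinPar T Y ∧ Y ≤ H ∧ ¬ K ≤ o2 Y ∧
      Y ≤ centralizer (zc T : Set G) ∧ ¬ o2 Y ≤ B}, (Y : Subgroup G) :=
    fun h => le_sup_of_le_left (le_inf hYH h)
  have hTY : Syl T Y := ⟨hY.le, hT.2.1, fun Q hQ h2 hTQ => hT.2.2 Q (hQ.trans hYH) h2 hTQ⟩
  by_cases h1 : K ≤ o2 Y
  · exact hcase ((le_normalizer_o2 Y).trans ((hB.nrm _ (isPGroup_o2 Y) h1).trans hZM))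
  by_cases h2 : Y ≤ centralizer (zc T : Set G)
  · by_cases h3 : o2 Y ≤ B
    · apply hcase
      have h4 : o2 H ≤ o2 Y := by
        refine le_o2 (isPGroup_o2 H) ((o2_le_syl hT).trans hY.le) (hYH.trans (le_normalizer_o2 H))
      have hcY : Y ⊓ centralizer (o2 Y : Set G) ≤ o2 Y := by
        rintro x ⟨hx, hxc⟩
        exact h4 (hc ⟨hYH hx, centralizer_le (by exact_mod_cast h4) hxc⟩)
      have h5 : ZJ ≤ zc (o2 Y) := by
        intro z hz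
        have hzT : z ∈ T := hBT (hB.ZB hz)
        have hcz : ∀ y ∈ o2 Y, y * z = z * y := fun y hy =>
          (mem_centralizer_iff.1 (hB.Bc (h3 hy)) z hz).symm
        exact mem_zc.2 ⟨hcY ⟨hY.le hzT, mem_centralizer_iff.2 hcz⟩, hB.sq z hz, hcz⟩
      have h6 : ZJ ≤ centralizer (oddGen Y : Set G) :=
        (le_inf le_rfl h5).trans (h.fixPt T Y ⟨hTY, hBT, hY, hcY, h1, h2⟩)
      have h7 : MinSimple.VModule.oddGen Y ≤ M := (le_centralizer_iff.1 h6).trans hD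
      have h8 : MinSimple.VModule.oddGen Y ⊔ T = Y := Dich.oddGen_sup_syl hTY
      rw [← h8]
      exact sup_le h7 hTM
    · exact le_sup_of_le_right (le_iSup (fun Y : {Y : Subgroup G // IsMinPar T Y ∧ Y ≤ H ∧ ¬ K ≤ o2 Y ∧
        Y ≤ centralizer (zc T : Set G) ∧ ¬ o2 Y ≤ B} => (Y : Subgroup G))
        ⟨Y, hY, hYH, h1, h2, h3⟩)
  · exact hcase (hblk Y hY hYH h1 h2)

/-- **Existence of pairs**, blocks inside `H` only. -/
theorem exists_pairH (h : Cr S K B V ZJ L W Z C) {M H : Subgroup G} (hBM : BMH K B M H)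
    (hD : centralizer (ZJ : Set G) ≤ M) (hN : normalizer (B : Set G) ≤ M)
    (hB : B ≤ H) (hc : H ⊓ centralizer (o2 H : Set G) ≤ o2 H) (hM : ¬ H ≤ M) :
    ∃ T F : Subgroup G, Pair K B V ZJ M T F ∧ F ≤ H := by
  have : Fact (Nat.Prime 2) := ⟨Nat.prime_two⟩
  obtain ⟨T₀, hT₀, hBT₀⟩ := exists_syl h.lb.Bp hB
  have hsylY : ∀ Y : Subgroup G, IsMinPar T₀ Y → Y ≤ H → Syl T₀ Y := fun Y hY hYH =>
    ⟨hY.le, hT₀.2.1, fun Q hQ h2 hTQ => hT₀.2.2 Q (hQ.trans hYH) h2 hTQ⟩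
  have hcY' : ∀ Y : Subgroup G, IsMinPar T₀ Y → Y ≤ H → Y ⊓ centralizer (o2 Y : Set G) ≤ o2 Y := by
    intro Y hY hYH
    have h4 : o2 H ≤ o2 Y :=
      le_o2 (isPGroup_o2 H) ((o2_le_syl hT₀).trans hY.le) (hYH.trans (le_normalizer_o2 H))
    rintro x ⟨hx, hxc⟩
    exact h4 (hc ⟨hYH hx, centralizer_le (by exact_mod_cast h4) hxc⟩)
  have hg := genM h hD hN hT₀ hBT₀ hc
    fun Y hY hYH => hBM T₀ Y (hsylY Y hY hYH) hBT₀ hY hYH (hcY' Y hY hYH)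
  -- the minimal parabolic `Y`
  obtain ⟨Y, ⟨hYm, hYH, hYK, hYc, -⟩, hYM⟩ : ∃ Y : Subgroup G, (IsMinPar T₀ Y ∧ Y ≤ H ∧
      ¬ K ≤ o2 Y ∧ Y ≤ centralizer (zc T₀ : Set G) ∧ ¬ o2 Y ≤ B) ∧ ¬ Y ≤ M := by
    by_contra hcon
    push Not at hcon
    exact hM (hg.trans (sup_le inf_le_right (iSup_le fun Y => hcon Y.1 Y.2)))
  have hTM : T₀ ≤ M := (h.lb.two_le hT₀.2.1 hBT₀).trans hN
  have hTY : Syl T₀ Y := hsylY Y hYm hYH
  have hcY := hcY' Y hYm hYH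
  have hq : Quiet K B T₀ Y := ⟨hTY, hBT₀, hYm, hcY, hYK, hYc⟩
  have hVY : V ≤ o2 Y := V_le_o2 h hT₀.2.1 hBT₀ hYm.le hYc
  -- `Y₁ = O²(Y) O₂(Y) B`
  set Y₁ : Subgroup G := oddGen Y ⊔ (o2 Y ⊔ B) with hY₁
  have hY₁Y : Y₁ ≤ Y := sup_le (oddGen_le Y) (sup_le (o2_le Y) (hBT₀.trans hYm.le))
  have hOB : IsPGroup 2 (o2 Y ⊔ B : Subgroup G) :=
    hT₀.2.1.to_le (sup_le (o2_le_syl hTY) hBT₀)
  obtain ⟨T, hT, hOT⟩ := exists_syl hOB (le_sup_right : o2 Y ⊔ B ≤ Y₁)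
  have hY₁M : ¬ Y₁ ≤ M := by
    intro hle
    apply hYM
    rw [← Dich.oddGen_sup_syl hTY]
    exact sup_le (le_sup_left.trans hle) hTM
  obtain ⟨F, hF⟩ := (Set.toFinite {R : Subgroup G | T ≤ R ∧ R ≤ Y₁ ∧ ¬ R ≤ M}).exists_minimal
    ⟨Y₁, hT.1, le_rfl, hY₁M⟩
  obtain ⟨hTF, hFY₁, hFM⟩ := hF.prop
  have hFY : F ≤ Y := hFY₁.trans hY₁Y
  have hsyl : Syl T F := ⟨hTF, hT.2.1, fun Q hQ h2 hle => hT.2.2 Q (hQ.trans hFY₁) h2 hle⟩
  have hBT : B ≤ T := le_sup_right.trans hOT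
  have hOF : o2 Y ≤ o2 F :=
    le_o2 (isPGroup_o2 Y) ((le_sup_left.trans hOT).trans hTF) (hFY.trans (le_normalizer_o2 Y))
  refine ⟨T, F, ⟨hsyl, hBT, hFM, fun R hTR hRF => ?_, hVY.trans hOF, ?_, T₀, Y, hq, hYM, hFY, hOF⟩,
    hFY.trans hYH⟩
  · by_contra hRM
    exact hRF.not_ge (hF.le_of_le ⟨hTR, hRF.le.trans hFY₁, hRM⟩ hRF.le)
  · rintro z ⟨hz, hzc⟩
    have hzB : z ∈ B := h.lb.ZB hz
    have hzO : ∀ y ∈ o2 Y, y * z = z * y := fun y hy => mem_centralizer_iff.1 hzc y (hOF hy)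
    have hz1 : z ∈ zc (o2 Y) := by
      refine mem_zc.2 ⟨hcY ⟨hYm.le (hBT₀ hzB), mem_centralizer_iff.2 hzO⟩, h.lb.sq z hz, hzO⟩
    have hz2 : z ∈ centralizer (oddGen Y : Set G) := h.fixPt T₀ Y hq ⟨hz, hz1⟩
    have hle : Y₁ ≤ centralizer ({z} : Set G) := by
      refine sup_le (fun y hy => ?_) (sup_le (fun y hy => ?_) fun y hy => ?_) <;>
        rw [mem_centralizer_singleton_iff]
      · exact mem_centralizer_iff.1 hz2 y hy
      · exact hzO y hy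
      · exact (mem_centralizer_iff.1 (h.lb.Bc hy) z hz).symm
    rw [mem_centralizer_iff]
    intro y hy
    exact mem_centralizer_singleton_iff.1 (hle (hFY₁ hy))

/-- **Existence of pairs.** -/
theorem exists_pair (h : Cr S K B V ZJ L W Z C) {M H : Subgroup G} (hBM : BM K B M)
    (hD : centralizer (ZJ : Set G) ≤ M) (hN : normalizer (B : Set G) ≤ M)
    (hB : B ≤ H) (hc : H ⊓ centralizer (o2 H : Set G) ≤ o2 H) (hM : ¬ H ≤ M) :
    ∃ T F : Subgroup G, Pair K B V ZJ M T F ∧ F ≤ H :=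
  exists_pairH h (fun T Y hT hB' hY _ => hBM T Y hT hB' hY) hD hN hB hc hM

/-- `K ≰ O₂(F)` for a pair. -/
theorem pair_nK (h : Cr S K B V ZJ L W Z C) {M T F : Subgroup G} (hp : Pair K B V ZJ M T F)
    (hZM : normalizer (ZJ : Set G) ≤ M) : ¬ K ≤ o2 F := fun hle =>
  hp.nM ((le_normalizer_o2 F).trans ((h.lb.nrm _ (isPGroup_o2 F) hle).trans hZM))

end Cr

end Cfsg.Agent.Omega.OM.SwapV
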