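import Cfsg.Agent.Mrg.Omega.OM.SwapL.PlugZ
import Cfsg.Agent.Mrg.Omega.OM.SwapV.Lv.Frame
import Cfsg.Agent.Mrg.Omega.OM.Lev.LowBlk
import Cfsg.Agent.Mrg.Omega.OM.Lev.SMin
import Cfsg.Agent.Mrg.Omega.OM.Swap.End

section


/-!
# (LL) for `q = 2` inside `C_G(c)`, `c ∈ Z_J` of full support, over `FrL` only

* `norm`, `two_norm` : `N_G(B)` and the 2-groups over `B` normalise `V`;
* `qv` : `YB.QV`; `lowZ` : `SwapL.LowZ S n c` for every `c ∈ Z_J` of full support.
-/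

set_option autoImplicit false

namespace Cfsg.Agent.Omega.OM.SwapV.LowZ

open Subgroup Cfsg Cfsg.Agent.ZN.ChoiceBase Cfsg.Agent.ZN.ChoiceSit
open Cfsg.Agent.ZN (jj zj bau zc zl o2)
open Cfsg.Agent.MinSimple.MinParabolic (IsMinPar)
open Cfsg.Agent.Omega.NO3S.Level (lev Lev lev_isLev)
open Cfsg.Agent.Omega.OM.Lev.Uni (FrL)
open Cfsg.Agent.Omega.OM.SwapL (ZL BL lb)

universe u

variable {G : Type u} [Group G] [Finite G] {ι : Type} [Finite ι] {S : Sylow 2 G} {V Q : Subgroup G} {n : ℕ}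
  {L W Z C A : ι → Subgroup G} {q : ℕ}

/-- **(U1)** -/
theorem norm (h : FrL (BL (S : Subgroup G) n) Q V (zc (lev (S : Subgroup G) n)) (ZL (S : Subgroup G) n) L W Z C A q)
    {g : G} (hg : g ∈ normalizer (BL (S : Subgroup G) n : Set G)) :
    cj g V = V ∧ ∀ i, ∃ j, cj g (Z i) = Z j ∧ cj g (W i) ≤ W j ⊔ ZL (S : Subgroup G) n :=
  h.norm_of hg (NO3S.Level.normalizer_le_zc _ (SwapL.norm_lev S (by omega) hg))

/-- a 2-group over `B` normalises `V`. -/
theorem two_norm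
    (h : FrL (BL (S : Subgroup G) n) Q V (zc (lev (S : Subgroup G) n)) (ZL (S : Subgroup G) n) L W Z C A q)
    {T : Subgroup G} (hT : IsPGroup 2 T) (hB : BL (S : Subgroup G) n ≤ T) : T ≤ normalizer (V : Set G) := by
  intro t ht
  rw [mem_normalizer_iff_cj]
  exact (norm h ((lb S n).two_le hT hB ht)).1

/-- **`QV`** -/
theorem qv
    (h : FrL (BL (S : Subgroup G) n) Q V (zc (lev (S : Subgroup G) n)) (ZL (S : Subgroup G) n) L W Z C A q)
    {T : Subgroup G} (hT : IsPGroup 2 T) (hB : BL (S : Subgroup G) n ≤ T) {j : ℕ} (hj : j ≤ n) :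
    Lev.Low.YB.QV T (zc (lev (S : Subgroup G) j)) Q V where
  QT := h.QB.trans hB
  TQ := by
    intro t ht
    have h1 := (lb S n).two_le hT hB ht
    have h2 := two_norm h hT hB ht
    have e : Q = BL (S : Subgroup G) n ⊓ centralizer (V : Set G) := by
      ext x
      rw [mem_inf, mem_centralizer_iff]
      constructor
      · intro hx
        exact ⟨h.QB hx, fun v hv => ((h.mem_Q x (h.QB hx)).1 hx v hv).symm⟩
      · rintro ⟨hx, hx'⟩
        exact (h.mem_Q x hx).2 fun v hv => (hx' v hv).symm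
    rw [mem_normalizer_iff_cj, e, cj_inf, cj_centralizer, cj_eq_of_mem_normalizer h1, cj_eq_of_mem_normalizer h2]
  mem := by
    intro x
    have hVX : V ≤ zc (lev (S : Subgroup G) j) :=
      h.VX.trans ((lev_isLev (S : Subgroup G) j).zc_le_zc (NO3S.Level.lev_mono _ hj) (NO3S.Level.lev_le _ n))
    constructor
    · exact fun hx => ⟨hVX hx, fun q hq => (h.mem_Q q (h.QB hq)).1 hq x hx⟩
    · rintro ⟨hx, hxQ⟩
      have h1 : x ∈ (S : Subgroup G) := NO3S.Level.lev_le _ j (mem_zc.1 hx).1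
      have h2 : x ∈ BL (S : Subgroup G) n :=
        ⟨h1, mem_centralizer_iff.2 fun z hz => hxQ z (h.VQ (h.ZJV hz))⟩
      have h3 : x ∈ Q := (h.mem_Q x h2).2 fun v hv => (hxQ v (h.VQ hv)).symm
      exact h.zcQ x h3 (mem_zc.1 hx).2.1 fun y hy => (hxQ y hy).symm
  two := hT

/-- **LL inside `C_G(c)`, `c` of full support.** -/
theorem lowZ
    (h : FrL (BL (S : Subgroup G) n) Q V (zc (lev (S : Subgroup G) n)) (ZL (S : Subgroup G) n) L W Z C A 2)
    {c : G} (hc : c ∈ ZL (S : Subgroup G) n) (hcf : ∀ i, c ∉ C i) : SwapL.LowZ S n c := by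
  intro T Y hT hB hY hYc hch hn
  by_contra hZ
  obtain ⟨j, hj, hlow, hnj⟩ := Lev.Low.exists_stg (S : Subgroup G) hn
  have hBj : LevB.BL (S : Subgroup G) j ≤ T := (Lev.Low.BL_mono (S : Subgroup G) (by omega : j ≤ n + 1)).trans hB
  obtain ⟨Λ, _, N, c', hy, ⟨l, hl⟩, hcN⟩ := Lev.Low.exists_ybj_cent S hT hBj hY hch hlow hnj hZ
  have hV := qv h hT.2.1 hB hj
  have hcX : c ∈ zc (lev (S : Subgroup G) j) := hV.VX (h.ZJV hc)
  have h1 := Lev.Low.no_low_two h hy hV hB hc hcf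
    (hcN c hcX fun y hy' => mem_centralizer_singleton_iff.1 (hYc hy')) l
  exact hl ((Lev.Low.zc_T_le S hT.2.1 hB).trans h1)

end Cfsg.Agent.Omega.OM.SwapV.LowZ

end

section


/-!
# THEOREM SW at the levels over `LnV`, inside `C_G(c)`, `c ∈ Z_J` of full support (the proofs of `SwapL/PlugZ.lean`)

* `le_of_char2Z` : `M ≥ C_G(Z_J), L i, N_G(B)` and the minimal parabolics `Y ≤ C_G(c)` over `T ≥ B` which move `Ω₁Z(T)`
  and `Z_J`: every `H ≤ C_G(c)` of characteristic 2 over `B` lies in `M`;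
* `K0_eq` : `K0 = ⟨C_G(Z_J), L i⟩`; `fam`;
* `nonLocZ` : if `C_G(Z_J)` and all `L i` normalise a nontrivial 2-group, then so do all these `H`, `N_G(B)` and the
  minimal parabolics of stage `n`.
-/

set_option autoImplicit false
set_option linter.unusedSectionVars false

namespace Cfsg.Agent.Omega.OM.SwapV.Lv

open Subgroup Cfsg Cfsg.Agent.ZN.ChoiceBase Cfsg.Agent.ZN.ChoiceSit
open Cfsg.Agent.ZN (jj zj bau zc zl o2)
open Cfsg.Agent.MinSimple.MinParabolic (IsMinPar)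
open Cfsg.Agent.MinSimple.VModule (oddGen oddGen_le)
open Cfsg.Agent.Omega.NO3S.Level (lev Lev lev_isLev BO nxt)
open Cfsg.Agent.Omega.OM.LevD (LB K0 Fam)
open Cfsg.Agent.Omega.OM.LevB (FBlk)
open Cfsg.Agent.Omega.OM.Swap.Fam (Fm BF fm_AA fm_best SitF)
open Cfsg.Agent.Omega.OM.Swap (char2_cent)
open Cfsg.Agent.Omega.OM.SwapL (ZL BL lb wc cj_mul_eq cj_inv_eq norm_lev nb mem_C_iff mem_of_cj_B_le BM BMH Stg zc_elab exists_norm Phi act hat step nWr keep SitFFalse)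

universe u

variable {G : Type u} [Group G] [Finite G]

section line

variable {ι : Type} [Finite ι] {S : Sylow 2 G} {V Q : Subgroup G} {n : ℕ} {L W Z C A : ι → Subgroup G}

/-- `V` commutes with its conjugates under `F` if `V ≤ O₂(F)`, `B ≤ T`. -/
theorem comm_of_pair (h : LnV S V Q n L W Z C A) {M T F : Subgroup G} (hp : Pair S V n M T F) {f : G} (hf : f ∈ F)
    {x y : G} (hx : x ∈ V) (hy : y ∈ V) : x * (f * y * f⁻¹) = f * y * f⁻¹ * x := by
  have hV := hp.VO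
  have hO : o2 F ≤ T := o2_le_syl hp.syl
  have hcO : cj f (o2 F) = o2 F := cj_eq_of_mem_normalizer (le_normalizer_o2 F hf)
  refine h.noff T hp.syl.2.1 hp.BT f ?_ ?_ x hx y hy
  · have := cj_mono f hV
    rw [hcO] at this
    exact this.trans hO
  · have := cj_mono f hO
    rw [hcO] at this
    exact hV.trans this

/-- A pair with `|C_ZJ(T)|` maximal; `C_G(C_ZJ(T) z_j) ≤ M` for `j ∉ Phi(T)`. -/
theorem exists_maxZ (h : LnV S V Q n L W Z C A) {M H : Subgroup G} {c : G} (hc : c ∈ ZL (S : Subgroup G) n)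
    (hcf : ∀ i, c ∉ C i) (hBM : BMH S n M (centralizer ({c} : Set G)))
    (hD : centralizer (ZL (S : Subgroup G) n : Set G) ≤ M) (hN : normalizer (BL (S : Subgroup G) n : Set G) ≤ M)
    (hB : BL (S : Subgroup G) n ≤ H) (hH : H ≤ centralizer ({c} : Set G))
    (hch : H ⊓ centralizer (o2 H : Set G) ≤ o2 H) (hM : ¬ H ≤ M) :
    ∃ T F : Subgroup G, Pair S V n M T F ∧ ∀ j, j ∉ Phi Z T →
      centralizer ((ZL (S : Subgroup G) n ⊓ centralizer (T : Set G) ⊔ Z j : Subgroup G) : Set G) ≤ M := by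
  classical
  have hS2 : IsPGroup 2 (ZL (S : Subgroup G) n) := (lb S n).Bp.to_le (lb S n).ZB
  have hBMH : ∀ H' : Subgroup G, H' ≤ centralizer ({c} : Set G) → BMH S n M H' := fun H' hH' T Y hT hB' hY hYH =>
    hBM T Y hT hB' hY (hYH.trans hH')
  -- choose
  let s : Set ℕ := {m | ∃ T F : Subgroup G, Pair S V n M T F ∧
    Nat.card (ZL (S : Subgroup G) n ⊓ centralizer (T : Set G) : Subgroup G) = m}
  have hs1 : s.Nonempty := by
    obtain ⟨T, F, hp, -⟩ := exists_pairH h (hBMH H hH) hD hN hB hch hM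
    exact ⟨_, T, F, hp, rfl⟩
  have hs2 : s.Finite := by
    refine (Set.finite_Iic (Nat.card (ZL (S : Subgroup G) n))).subset ?_
    rintro m ⟨T, F, -, rfl⟩
    rw [Set.mem_Iic]
    exact Nat.card_mono (Set.toFinite _) (inf_le_left : ZL (S : Subgroup G) n ⊓ centralizer (T : Set G) ≤ _)
  obtain ⟨m, hm⟩ := hs2.exists_maximal hs1
  obtain ⟨T, F, hp, hcard⟩ := hm.prop
  refine ⟨T, F, hp, fun j hj => ?_⟩
  by_contra hcon
  set X : Subgroup G := ZL (S : Subgroup G) n ⊓ centralizer (T : Set G) ⊔ Z j with hX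
  have hXJ : X ≤ ZL (S : Subgroup G) n := sup_le inf_le_left (h.fr.Z_le j)
  have hX1 : X ≠ ⊥ := by
    intro e
    obtain ⟨z, hz, hz1⟩ := Z_ne h j
    have h1 : z ∈ X := mem_sup_right hz
    rw [e, mem_bot] at h1
    exact hz1 h1
  have hcX : c ∈ X := by
    refine mem_sup_left (mem_inf.2 ⟨hc, mem_centralizer_iff.2 fun t ht => ?_⟩)
    exact full_cent h hc hcf hp.syl.2.1 hp.BT ht
  have hXc : centralizer (X : Set G) ≤ centralizer ({c} : Set G) :=
    centralizer_le (Set.singleton_subset_iff.2 hcX)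
  have hBX : BL (S : Subgroup G) n ≤ centralizer (X : Set G) :=
    (lb S n).Bc.trans (centralizer_le (by exact_mod_cast hXJ))
  obtain ⟨T', F', hp', hle⟩ := exists_pairH h (hBMH _ hXc) hD hN hBX
    (char2_cent h.char2 (hS2.to_le hXJ) hX1) hcon
  have hsub : X ≤ ZL (S : Subgroup G) n ⊓ centralizer (T' : Set G) :=
    le_inf hXJ (le_centralizer_iff.1 (hp'.syl.1.trans hle))
  have hlt : ZL (S : Subgroup G) n ⊓ centralizer (T : Set G) < X := by
    refine lt_of_le_of_ne le_sup_left fun e => hj fun t ht => ?_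
    refine cj_eq_of_mem_normalizer (centralizer_le_normalizer _ ?_)
    have h1 : Z j ≤ centralizer (T : Set G) := by
      have h2 : Z j ≤ ZL (S : Subgroup G) n ⊓ centralizer (T : Set G) := by
        rw [e]; exact le_sup_right
      exact h2.trans inf_le_right
    exact le_centralizer_iff.1 h1 ht
  have h2 : m < Nat.card (ZL (S : Subgroup G) n ⊓ centralizer (T' : Set G) : Subgroup G) := by
    rw [← hcard]
    refine lt_of_lt_of_le (lt_of_not_ge fun hge => hlt.ne (Subgroup.eq_of_le_of_card_ge hlt.le hge))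
      (Nat.card_mono (Set.toFinite _) (hsub : (X : Set G) ⊆ _))
  exact absurd (hm.le_of_ge ⟨T', F', hp', rfl⟩ h2.le) (not_le.2 h2)

/-- **STEP 0.** -/
theorem exists_sitZ (h : LnV S V Q n L W Z C A) {M H : Subgroup G} {c : G} (hc : c ∈ ZL (S : Subgroup G) n)
    (hcf : ∀ i, c ∉ C i) (hBM : BMH S n M (centralizer ({c} : Set G))) (hLM : ∀ i, L i ≤ M)
    (hD : centralizer (ZL (S : Subgroup G) n : Set G) ≤ M) (hN : normalizer (BL (S : Subgroup G) n : Set G) ≤ M)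
    (hB : BL (S : Subgroup G) n ≤ H) (hH : H ≤ centralizer ({c} : Set G))
    (hch : H ⊓ centralizer (o2 H : Set G) ≤ o2 H) (hM : ¬ H ≤ M) :
    ∃ (T F F₀ : Subgroup G) (𝓐 : Set (Subgroup G)) (κ : Type) (V : κ → Subgroup G) (z : κ → G),
      SitF F T F₀ 𝓐 V z := by
  classical
  obtain ⟨T, F, hp, hcen⟩ := exists_maxZ h hc hcf hBM hD hN hB hH hch hM
  have hZM : normalizer (ZL (S : Subgroup G) n : Set G) ≤ M := (lb S n).norm_zj_le.trans (sup_le hD hN)
  have hSM : (S : Subgroup G) ≤ M := ((lb S n).two_le S.isPGroup' (lb S n).BS).trans hN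
  have hTN : T ≤ normalizer (BL (S : Subgroup G) n : Set G) := (lb S n).two_le hp.syl.2.1 hp.BT
  have hTM : T ≤ M := hTN.trans hN
  have hO : o2 F ≤ T := o2_le_syl hp.syl
  have hON : o2 F ≤ normalizer (BL (S : Subgroup G) n : Set G) := hO.trans hTN
  have hTF : T ≤ F := hp.syl.1
  obtain ⟨𝓐, hfam, hnJ, hA⟩ := exists_fam h hp hD hTM hZM
  choose z hz hz1 using Z_ne h
  -- an index moved by `O₂(F)`
  obtain ⟨i₀, o₀, ho₀, hmv⟩ : ∃ i, ∃ o ∈ o2 F, cj o (Z i) ≠ Z i := by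
    by_contra hcon
    push Not at hcon
    apply hp.nM
    have h1 : ZL (S : Subgroup G) n ≤ centralizer (F : Set G) := by
      intro x hx
      refine hp.fix ⟨hx, mem_centralizer_iff.2 fun o ho => ?_⟩
      refine comm_of_supp h (hON ho) hx fun i j e => ?_
      rw [hcon i o ho] at e
      rw [Z_inj h e]
    exact (le_centralizer_iff.1 h1).trans hD
  -- its orbit
  set r : Set ι := {j | ∃ o ∈ o2 F, cj o (Z i₀) = Z j} with hr
  have hrO : ∀ o ∈ o2 F, ∀ i j, cj o (Z i) = Z j → (i ∈ r ↔ j ∈ r) := by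
    intro o ho i j e
    constructor
    · rintro ⟨o', ho', e'⟩
      exact ⟨o * o', mul_mem ho ho', cj_mul_eq e' e⟩
    · rintro ⟨o', ho', e'⟩
      exact ⟨o⁻¹ * o', mul_mem (inv_mem ho) ho', cj_mul_eq e' (cj_inv_eq e)⟩
  have hi₀ : i₀ ∈ r := ⟨1, one_mem _, cj_one _⟩
  obtain ⟨j₀, hj₀, -⟩ := perm h (hON ho₀) i₀
  have hj₀r : j₀ ∈ r := ⟨o₀, ho₀, hj₀⟩
  have hne₀ : i₀ ≠ j₀ := by
    rintro rfl
    exact hmv hj₀
  -- elements of `Z_J` with support `r` are centralised by `F`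
  have hsuppF : ∀ x ∈ ZL (S : Subgroup G) n, (∀ i, x ∈ C i ↔ i ∉ r) → ∀ f ∈ F, f * x = x * f := by
    intro x hx hxs f hf
    refine mem_centralizer_iff.1 (hp.fix ⟨hx, mem_centralizer_iff.2 fun o ho => ?_⟩) f hf
    refine comm_of_supp h (hON ho) hx fun i j e => ?_
    rw [hxs i, hxs j, hrO o ho i j e]
  obtain ⟨xr, hxr, hxrs⟩ := exists_supp h r
  -- `T` stabilises `r`
  have hrT : ∀ t ∈ T, ∀ i j, cj t (Z i) = Z j → i ∈ r → j ∈ r := by
    intro t ht i j e hi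
    by_contra hj
    have h1 := (supp_cj h (hTN ht) e hxr).1
    have h2 := hsuppF xr hxr hxrs t (hTF ht)
    have h3 : t * xr * t⁻¹ = xr := by rw [h2]; group
    rw [h3] at h1
    exact (hxrs i).1 (h1 ((hxrs j).2 hj)) hi
  -- `r` and `Phi(T)` are disjoint
  have hrPhi : ∀ j ∈ r, j ∉ Phi Z T := by
    rintro j ⟨o, ho, e⟩ hj
    apply hmv
    have h1 := hj (o * o₀ * o⁻¹) (hO (mul_mem (mul_mem ho ho₀) (inv_mem ho)))
    rw [← e, cj_cj] at h1
    have h2 : cj o⁻¹ (cj (o * o₀ * o⁻¹ * o) (Z i₀)) = cj o⁻¹ (cj o (Z i₀)) := by rw [h1]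
    rw [cj_cj, cj_inv_cj] at h2
    have e2 : o⁻¹ * (o * o₀ * o⁻¹ * o) = o₀ := by group
    rwa [e2] at h2
  -- (TI)
  choose tv htvA htvm using exists_tv h
  have hctx : Ctx S V Q n L W Z C A M T F r z tv :=
    { h := h
      hp := hp
      LM := hLM
      NM := hN
      cen := fun i hi => hcen i (hrPhi i hi)
      zZ := hz
      zn := hz1
      tvA := htvA
      tvm := htvm
      tr := by
        rintro i ⟨o, ho, e⟩ j ⟨o', ho', e'⟩
        exact ⟨o' * o⁻¹, mul_mem ho' (inv_mem ho), cj_mul_eq (cj_inv_eq e) e'⟩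
      inv := hrO
      nt := fun i _ => by
        by_cases hi : i = i₀
        · exact ⟨j₀, hj₀r, fun e => hne₀ (by rw [← hi, e])⟩
        · exact ⟨i₀, hi₀, fun e => hi e.symm⟩ }
  have hti : ∀ i ∈ r, ∀ x ∈ W i, x ≠ 1 → ∀ f ∈ F, x ∈ cj f (⨆ j ∈ r, W j) → f ∈ M := by
    intro i hi x hx hx1 f hf hxf
    rw [mem_cj] at hxf
    exact hctx.ti hf hi hx hx1 hxf
  have hsup : (⨆ j : r, W j) = ⨆ j ∈ r, W j := iSup_subtype' (f := fun j (_ : j ∈ r) => W j) |>.symm
  have hWV : ∀ i, W i ≤ V := h.fr.WV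
  have hcomm : ∀ f ∈ F, ∀ x ∈ V, ∀ y ∈ V,
      x * (f * y * f⁻¹) = f * y * f⁻¹ * x := fun f hf x hx y hy => comm_of_pair h hp hf hx hy
  -- `Λ = ⟨V^F⟩` is elementary abelian
  have hVel : IsElementaryAbelian 2 (NoFF.Basic.V V F) := by
    have h1 := Swap.elab_iSup (W := fun f : F => cj (f : G) V) (fun f f' x hx y hy => ?_)
      fun f x hx => ?_
    · exact Swap.elab_of h1.1 h1.2
    · rw [mem_cj] at hx hy
      have h2 := hcomm ((f : G)⁻¹ * f') (mul_mem (inv_mem f.2) f'.2) _ hx _ hy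
      have e1 : (f : G)⁻¹ * f' * ((f' : G)⁻¹ * y * f') * ((f : G)⁻¹ * f')⁻¹ = (f : G)⁻¹ * y * f := by group
      rw [e1] at h2
      have h3 := congrArg (fun t => (f : G) * t * (f : G)⁻¹) h2
      have e2 : (f : G) * ((f : G)⁻¹ * x * f * ((f : G)⁻¹ * y * f)) * (f : G)⁻¹ = x * y := by group
      have e3 : (f : G) * ((f : G)⁻¹ * y * f * ((f : G)⁻¹ * x * f)) * (f : G)⁻¹ = y * x := by group
      exact e2.symm.trans (h3.trans e3)
    · rw [mem_cj] at hx
      have h2 := SQ1.Bau.elem_sq h.fr.el _ hx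
      rw [pow_two] at h2
      have e : x * x = f * ((f : G)⁻¹ * x * f * ((f : G)⁻¹ * x * f)) * (f : G)⁻¹ := by group
      rw [e, h2]; group
  have hUV : (⨆ j : r, W j) ≤ V := iSup_le fun j => hWV j
  have hLV : NoFF.Basic.V (⨆ j : r, W j) F ≤ NoFF.Basic.V V F :=
    NoFF.Basic.V_le fun f hf => (cj_mono f hUV).trans (NoFF.Basic.Z_le_V hf)
  have hUF : (⨆ j : r, W j) ≤ F := hUV.trans (hp.VO.trans (o2_le F))
  refine ⟨T, F, F ⊓ M, 𝓐, r, fun i => W i, fun i => z i, ?_⟩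
  refine
    { syl := hp.syl
      TF₀ := le_inf hTF hTM
      F₀F := lt_of_le_of_ne inf_le_left fun e => hp.nM (inf_eq_left.1 e)
      max := fun K hTK hKF => le_inf hKF.le (hp.min K hTK hKF)
      fam := hfam _ (Swap.elab_mono hVel hLV) ?_ OmThm.XD.X_le_normalizer_W hLV
      nJ := hnJ
      fin := inferInstance
      two := ⟨⟨i₀, hi₀⟩, ⟨j₀, hj₀r⟩, fun e => hne₀ (congrArg Subtype.val e)⟩
      card := fun i => by rw [(h.fr.blk i).card, h.fr.cardZ]
      zV := fun i => Z_W h _ (hz i)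
      z1 := fun i => hz1 i
      VO := fun i => (hWV i).trans hp.VO
      sq := fun i x hx => by
        rw [← pow_two]
        exact SQ1.Bau.elem_sq h.fr.el x (hWV i hx)
      comm := fun f hf i j x hx y hy => comm_of_pair h hp hf (hWV i hx) (hWV j hy)
      ind := ?_
      perm := ?_
      tr := ?_
      nor := ?_
      hat := ?_
      mov := ?_
      zc := ?_
      ti := ?_ }
  · refine NoFF.Basic.V_le fun f hf => ?_
    have := cj_mono f hUF
    rwa [cj_eq_of_mem_normalizer (le_normalizer hf)] at this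
  · rintro ⟨i, hi⟩ x hx hx'
    have h1 : (⨆ j : r, ⨆ _ : j ≠ ⟨i, hi⟩, W j) ≤ C i := by
      refine iSup_le fun j => iSup_le fun hj => ?_
      exact h.fr.WjC i j fun e => hj (Subtype.ext e.symm)
    have h2 : x ∈ W i ⊓ C i := mem_inf.2 ⟨hx, h1 hx'⟩
    rwa [h.fr.dir i, mem_bot] at h2
  · rintro t ht ⟨i, hi⟩
    obtain ⟨j, h1, h2, -⟩ := perm h (hTN ht) i
    exact ⟨⟨j, hrT t ht i j h1 hi⟩, h2, conj_gen h h1 (hz i) (hz1 i) (hz j) (hz1 j)⟩
  · rintro ⟨i, o, ho, e⟩ ⟨j, o', ho', e'⟩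
    refine ⟨o' * o⁻¹, mul_mem ho' (inv_mem ho), ?_⟩
    exact W_cj h (hON (mul_mem ho' (inv_mem ho))) (cj_mul_eq (cj_inv_eq e) e')
  · rintro X hX hXT a ha ⟨i, hi⟩
    have hb := (hA X hX hXT).1 ha
    have key : ∀ b ∈ BL (S : Subgroup G) n, cj b (W i) ≤ W i := by
      rintro b hb _ ⟨w, hw, rfl⟩
      exact (h.fr.blk i).BV hb hw
    refine le_antisymm (key a hb) ?_
    have := cj_mono a (key a⁻¹ (inv_mem hb))
    rwa [cj_cj_inv] at this
  · rintro X hX hXT ⟨i, hi⟩ hmv'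
    obtain ⟨hXB, h1 | hbest⟩ := hA X hX hXT
    · obtain ⟨a, ha, x, hx, hne⟩ := hmv'
      exact absurd (h1 a ha x (hWV i hx)) hne
    · obtain ⟨a, ha, h1, h2⟩ := hat h.fr hXB hbest hmv'
      exact ⟨a, ha, h1, fun j hj x hx => h2 j (fun e => hj (Subtype.ext e)) x hx⟩
  · rintro ⟨i, hi⟩
    have h2 := h.fr.Ane i
    push Not at h2
    obtain ⟨a, ha, v, hv, hne⟩ := h2
    refine ⟨a, hp.BT (h.fr.AB i ha), ⟨v, hv, hne⟩, fun j hj x hx => ?_⟩
    exact h.fr.AC i a ha x (h.fr.WjC i j (fun e => hj (Subtype.ext e.symm)) hx)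
  · rintro ⟨i, hi⟩ ⟨j, hj⟩ hij hall f hf
    have hij' : i ≠ j := fun e => hij (Subtype.ext e)
    have hall' : ∀ k ∈ r, k = i ∨ k = j := by
      intro k hk
      rcases hall ⟨k, hk⟩ with e | e
      · exact Or.inl (congrArg Subtype.val e)
      · exact Or.inr (congrArg Subtype.val e)
    refine hsuppF (z i * z j) (mul_mem (h.fr.Z_le i (hz i)) (h.fr.Z_le j (hz j))) (fun k => ?_) f hf
    by_cases hki : k = i
    · subst hki
      rw [Subgroup.mul_mem_cancel_right _ (Z_C h hij' (hz j))]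
      exact ⟨fun h1 => absurd h1 (not_mem_C h (hz k) (hz1 k)), fun h1 => absurd hi h1⟩
    · by_cases hkj : k = j
      · subst hkj
        rw [Subgroup.mul_mem_cancel_left _ (Z_C h hki (hz i))]
        exact ⟨fun h1 => absurd h1 (not_mem_C h (hz k) (hz1 k)), fun h1 => absurd hj h1⟩
      · refine ⟨fun _ hk => ?_, fun _ => mul_mem (Z_C h hki (hz i)) (Z_C h hkj (hz j))⟩
        rcases hall' k hk with e | e
        · exact hki e
        · exact hkj e
  · rintro ⟨i, hi⟩ x hx hx1 f hf hxf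
    rw [hsup] at hxf
    exact mem_inf.2 ⟨hf, hti i hi x hx hx1 f hf hxf⟩

/-- **THEOREM SW at the levels**, inside `C_G(c)`. -/
theorem le_of_char2Z (hs : SitFFalse.{u}) (h : LnV S V Q n L W Z C A) {M H : Subgroup G} {c : G}
    (hc : c ∈ ZL (S : Subgroup G) n) (hcf : ∀ i, c ∉ C i) (hBM : BMH S n M (centralizer ({c} : Set G)))
    (hLM : ∀ i, L i ≤ M)
    (hD : centralizer (ZL (S : Subgroup G) n : Set G) ≤ M) (hN : normalizer (BL (S : Subgroup G) n : Set G) ≤ M)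
    (hB : BL (S : Subgroup G) n ≤ H) (hH : H ≤ centralizer ({c} : Set G))
    (hch : H ⊓ centralizer (o2 H : Set G) ≤ o2 H) : H ≤ M := by
  by_contra hM
  obtain ⟨T, F, F₀, 𝓐, κ, V, z, hS⟩ := exists_sitZ h hc hcf hBM hLM hD hN hB hH hch hM
  exact hs G F T F₀ 𝓐 κ V z hS

/-- an element of full support -/
theorem exists_full (h : LnV S V Q n L W Z C A) : ∃ c ∈ ZL (S : Subgroup G) n, ∀ i, c ∉ C i := by
  obtain ⟨c, hc, hs⟩ := exists_supp h Set.univ
  exact ⟨c, hc, fun i hi => (hs i).1 hi (Set.mem_univ i)⟩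

theorem fblk (h : LnV S V Q n L W Z C A) (i : ι) : FBlk (BL (S : Subgroup G) n) (L i) (W i) where
  fb := ⟨_, _, h.fr.blk i⟩
  blk := (h.fr.blk i).toBlock (h.fr.cardZ i) (lb S n).Bp (lb S n).weakNormal

theorem W_all (h : LnV S V Q n L W Z C A) : ZL (S : Subgroup G) n ≤ ⨆ i, W i :=
  (Lev.Low.zj_le h.fr fun i => ((h.fr.blk i).ZV.trans (le_iSup W i)))

theorem fam (h : LnV S V Q n L W Z C A) :
    Fam (BL (S : Subgroup G) n) (ZL (S : Subgroup G) n) (FBlk (BL (S : Subgroup G) n)) :=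
  LevB.fam ((W_all h).trans (iSup_le fun i => le_iSup
    (fun i : {x : Subgroup G × Subgroup G // FBlk (BL (S : Subgroup G) n) x.1 x.2} => i.1.2) ⟨(L i, W i), fblk h i⟩))

/-- **`K0 = ⟨C_G(Z_J), L i⟩`** (every FF-block over `B` has its module in `Ω₁Z(lev S n)`, and UNI+). -/
theorem K0_eq (h : LnV S V Q n L W Z C A) : K0 (ZL (S : Subgroup G) n) (FBlk (BL (S : Subgroup G) n)) =
    centralizer (ZL (S : Subgroup G) n : Set G) ⊔ ⨆ i, L i := by
  apply le_antisymm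
  · refine sup_le le_sup_left (iSup_le ?_)
    rintro ⟨⟨L', V'⟩, ⟨Z', q', hF⟩, hb⟩
    have eqB : BL (S : Subgroup G) n =
      (S : Subgroup G) ⊓ centralizer (zc (lev (S : Subgroup G) (n + 1)) : Set G) := rfl
    have hX := Lev.LowBlk.V_le S eqB h.fr hF hb.irr
    have hp : ∀ g ∈ normalizer (BL (S : Subgroup G) n : Set G), ∀ j, ∃ k, cj g (Z j) = Z k := by
      intro g hg j
      obtain ⟨k, hk, -⟩ := perm h hg j
      exact ⟨k, hk⟩
    obtain ⟨-, i, -, -, -, -, h2⟩ := Lev.UniPlus.uniPlusX h.fr (lb S n).Bp (wc S n) hp hF hX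
    refine (h2 rfl).2.trans (sup_le (le_sup_of_le_right (le_iSup L i)) (le_sup_of_le_left (centralizer_le ?_)))
    exact_mod_cast (le_sup_right : ZL (S : Subgroup G) n ≤ W i ⊔ ZL (S : Subgroup G) n)
  · exact sup_le LevD.cent_le_K0 (iSup_le fun i => LevD.blk_le_K0 (fblk h i))

/-- **(Om)**: if `C_G(Z_J)` and all `L i` normalise a nontrivial 2-group, then `M = N_G(O₂⟨C_G(Z_J), L i⟩)` contains
`N_G(B)`, everything of characteristic 2 in `C_G(c)` over `B`, `c ∈ Z_J` of full support, and everything of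
characteristic 2 and stage `n` over `B`. -/
theorem nonLocZ (h : LnV S V Q n L W Z C A) {R : Subgroup G} (hR : IsPGroup 2 R) (hR1 : R ≠ ⊥)
    (hD : centralizer (ZL (S : Subgroup G) n : Set G) ≤ normalizer (R : Set G))
    (hL : ∀ i, L i ≤ normalizer (R : Set G)) :
    ∃ O : Subgroup G, IsPGroup 2 O ∧ O ≠ ⊥ ∧ O ≤ BL (S : Subgroup G) n ∧
      centralizer (ZL (S : Subgroup G) n : Set G) ≤ normalizer (O : Set G) ∧ (∀ i, L i ≤ normalizer (O : Set G)) ∧
      normalizer (BL (S : Subgroup G) n : Set G) ≤ normalizer (O : Set G) ∧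
      (∀ T Y : Subgroup G, Syl T Y → BL (S : Subgroup G) n ≤ T → IsMinPar T Y →
        Y ⊓ centralizer (o2 Y : Set G) ≤ o2 Y → lev (S : Subgroup G) n ≤ o2 Y →
        ¬ lev (S : Subgroup G) (n + 1) ≤ o2 Y → ¬ Y ≤ centralizer (zc T : Set G) → Y ≤ normalizer (O : Set G)) ∧
      ∀ c ∈ ZL (S : Subgroup G) n, (∀ i, c ∉ C i) → ∀ H : Subgroup G, BL (S : Subgroup G) n ≤ H →
        H ≤ centralizer ({c} : Set G) → H ⊓ centralizer (o2 H : Set G) ≤ o2 H → H ≤ normalizer (O : Set G) := by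
  obtain ⟨ho, hoB, hle⟩ := (fam h).dich (lb S n) hR hR1 (by
    rw [K0_eq h]
    exact sup_le hD (iSup_le hL))
  set O : Subgroup G := o2 (K0 (ZL (S : Subgroup G) n) (FBlk (BL (S : Subgroup G) n))) with hO
  have hK : K0 (ZL (S : Subgroup G) n) (FBlk (BL (S : Subgroup G) n)) ≤ normalizer (O : Set G) :=
    le_sup_left.trans hle
  have hN : normalizer (BL (S : Subgroup G) n : Set G) ≤ normalizer (O : Set G) := le_sup_right.trans hle
  have hLM : ∀ i, L i ≤ normalizer (O : Set G) := fun i => (LevD.blk_le_K0 (fblk h i)).trans hK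
  have hDM := LevD.cent_le_K0.trans hK
  have key : ∀ T Y : Subgroup G, Syl T Y → BL (S : Subgroup G) n ≤ T → IsMinPar T Y →
      Y ⊓ centralizer (o2 Y : Set G) ≤ o2 Y → lev (S : Subgroup G) n ≤ o2 Y →
      ¬ lev (S : Subgroup G) (n + 1) ≤ o2 Y → ¬ Y ≤ centralizer (zc T : Set G) → Y ≤ normalizer (O : Set G) :=
    fun T Y hT hB hY hc h1 hn hZ =>
      (LevB.blkGen S hT hB hY hc h1 hn hZ).trans (sup_le hK (((lb S n).two_le hT.2.1 hB).trans hN))
  refine ⟨O, isPGroup_o2 _, ho, hoB, hDM, hLM, hN, key, fun c hc hcf H hB hH hch => ?_⟩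
  refine le_of_char2Z (fun _ _ _ _ _ _ _ _ _ _ h => h.false) h hc hcf ?_ hLM hDM hN hB hH hch
  intro T Y hT hB hY hYc hc2 hn hZ
  by_contra hcon
  exact hZ (LowZ.lowZ h.fr hc hcf T Y hT hB hY hYc hc2 fun h1 => hcon (key T Y hT hB hY hc2 h1 hn hZ))

end line

end Cfsg.Agent.Omega.OM.SwapV.Lv

end
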