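import Cfsg.Agent.Mrg.Omega.OM.SwapV.Core
import Cfsg.Agent.Mrg.Omega.OM.Swap.End
import Cfsg.Agent.Mrg.Omega.OM.SwapL.Main

section


/-!
# THEOREM SW over an abstract frame `Cr S K B V ZJ L W Z C`: the situation `SitF`

`M ≥ C_G(Z_J), L_i, N_G(B)`, `BM K B M`. If some subgroup `H ≥ B` of characteristic 2 is not contained in `M`, then there is
a pair `(T, F)` with `|Phi(T)|` maximal and one `O₂(F)`-orbit of indices for which `SitF` holds, which is false.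

* `Cr.exists_max`, `Cr.exists_sit`; `Cr.le_of_char2` : **THEOREM SW**;
* `Cr.noOm` : (Om) is impossible: `K0` normalises no nontrivial 2-subgroup.
-/

set_option autoImplicit false

namespace Cfsg.Agent.Omega.OM.SwapV

open Subgroup Cfsg Cfsg.Agent.ZN.ChoiceBase Cfsg.Agent.ZN.ChoiceSit
open Cfsg.Agent.ZN (jj zj bau zc zl o2)
open Cfsg.Agent.MinSimple.MinParabolic (IsMinPar)
open Cfsg.Agent.Omega.OM.LevD (LB K0 Fam)
open Cfsg.Agent.Omega.OM.LevB (FBlk)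
open Cfsg.Agent.Omega.OM.Swap.Fam (Fm SitF)
open Cfsg.Agent.Omega.OM.Swap (char2_cent)
open Cfsg.Agent.Omega.OM.SwapL (cj_mul_eq cj_inv_eq Phi SitFFalse)

universe u

variable {G : Type u} [Group G] [Finite G]

/-- an orbit of `O₂(F)` on the indices with at least two elements -/
structure Orb {ι : Type} (ZJ T F : Subgroup G) (Z C : ι → Subgroup G) (r : Set ι) : Prop where
  two : ∃ i ∈ r, ∃ j ∈ r, i ≠ j
  tr : ∀ i ∈ r, ∀ j ∈ r, ∃ o ∈ o2 F, cj o (Z i) = Z j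
  inv : ∀ o ∈ o2 F, ∀ i j, cj o (Z i) = Z j → (i ∈ r ↔ j ∈ r)
  suppF : ∀ x ∈ ZJ, (∀ i, x ∈ C i ↔ i ∉ r) → ∀ f ∈ F, f * x = x * f
  rT : ∀ t ∈ T, ∀ i j, cj t (Z i) = Z j → i ∈ r → j ∈ r
  rPhi : ∀ j ∈ r, j ∉ Phi Z T

namespace Cr

variable {ι : Type} [Finite ι] {S : Sylow 2 G} {K B V ZJ : Subgroup G} {L W Z C : ι → Subgroup G}

/-- `O₂(F)` moves some index -/
theorem exists_orb (h : Cr S K B V ZJ L W Z C) {M T F : Subgroup G} (hp : Pair K B V ZJ M T F)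
    (hD : centralizer (ZJ : Set G) ≤ M) : ∃ r : Set ι, Orb ZJ T F Z C r := by
  classical
  have hTN : T ≤ normalizer (B : Set G) := h.lb.two_le hp.syl.2.1 hp.BT
  have hO : o2 F ≤ T := o2_le_syl hp.syl
  have hON : o2 F ≤ normalizer (B : Set G) := hO.trans hTN
  have hTF : T ≤ F := hp.syl.1
  choose z hz hz1 using Z_ne h
  -- an index moved by `O₂(F)`
  obtain ⟨i₀, o₀, ho₀, hmv⟩ : ∃ i, ∃ o ∈ o2 F, cj o (Z i) ≠ Z i := by
    by_contra hcon
    push Not at hcon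
    apply hp.nM
    have h1 : ZJ ≤ centralizer (F : Set G) := by
      intro x hx
      refine hp.fix ⟨hx, mem_centralizer_iff.2 fun o ho => ?_⟩
      refine comm_of_supp h (hON ho) hx fun i j e => ?_
      rw [hcon i o ho] at e
      rw [Z_inj h e]
    exact (le_centralizer_iff.1 h1).trans hD
  -- its orbit
  set r : Set ι := {j | ∃ o ∈ o2 F, cj o (Z i₀) = Z j} with hr
  have hrO : ∀ o ∈ o2 F, ∀ i j, cj o (Z i) = Z j → (i ∈ r ↔ j ∈ r) := by
    intro o ho i j e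
    constructor
    · rintro ⟨o', ho', e'⟩
      exact ⟨o * o', mul_mem ho ho', cj_mul_eq e' e⟩
    · rintro ⟨o', ho', e'⟩
      exact ⟨o⁻¹ * o', mul_mem (inv_mem ho) ho', cj_mul_eq e' (cj_inv_eq e)⟩
  have hi₀ : i₀ ∈ r := ⟨1, one_mem _, cj_one _⟩
  obtain ⟨j₀, hj₀, -⟩ := perm h (hON ho₀) i₀
  have hj₀r : j₀ ∈ r := ⟨o₀, ho₀, hj₀⟩
  have hne₀ : i₀ ≠ j₀ := by
    rintro rfl
    exact hmv hj₀
  -- elements of `Z_J` with support `r` are centralised by `F`
  have hsuppF : ∀ x ∈ ZJ, (∀ i, x ∈ C i ↔ i ∉ r) → ∀ f ∈ F, f * x = x * f := by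
    intro x hx hxs f hf
    refine mem_centralizer_iff.1 (hp.fix ⟨hx, mem_centralizer_iff.2 fun o ho => ?_⟩) f hf
    refine comm_of_supp h (hON ho) hx fun i j e => ?_
    rw [hxs i, hxs j, hrO o ho i j e]
  obtain ⟨xr, hxr, hxrs⟩ := exists_supp h r
  -- `T` stabilises `r`
  have hrT : ∀ t ∈ T, ∀ i j, cj t (Z i) = Z j → i ∈ r → j ∈ r := by
    intro t ht i j e hi
    by_contra hj
    have h1 := (supp_cj h (hTN ht) e hxr).1
    have h2 := hsuppF xr hxr hxrs t (hTF ht)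
    have h3 : t * xr * t⁻¹ = xr := by rw [h2]; group
    rw [h3] at h1
    exact (hxrs i).1 (h1 ((hxrs j).2 hj)) hi
  -- `r` and `Phi(T)` are disjoint
  have hrPhi : ∀ j ∈ r, j ∉ Phi Z T := by
    rintro j ⟨o, ho, e⟩ hj
    apply hmv
    have h1 := hj (o * o₀ * o⁻¹) (hO (mul_mem (mul_mem ho ho₀) (inv_mem ho)))
    rw [← e, cj_cj] at h1
    have h2 : cj o⁻¹ (cj (o * o₀ * o⁻¹ * o) (Z i₀)) = cj o⁻¹ (cj o (Z i₀)) := by rw [h1]
    rw [cj_cj, cj_inv_cj] at h2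
    have e2 : o⁻¹ * (o * o₀ * o⁻¹ * o) = o₀ := by group
    rwa [e2] at h2
  refine ⟨r, ⟨i₀, hi₀, j₀, hj₀r, hne₀⟩, ?_, hrO, hsuppF, hrT, hrPhi⟩
  rintro i ⟨o, ho, e⟩ j ⟨o', ho', e'⟩
  exact ⟨o' * o⁻¹, mul_mem ho' (inv_mem ho), cj_mul_eq (cj_inv_eq e) e'⟩

/-- A pair with `|Phi(T)|` maximal; `C_G(Z₀ z_j) ≤ M` for `j ∉ Phi(T)`. -/
theorem exists_max (h : Cr S K B V ZJ L W Z C) {M H : Subgroup G} (hBM : BM K B M)
    (hD : centralizer (ZJ : Set G) ≤ M) (hN : normalizer (B : Set G) ≤ M)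
    (hB : B ≤ H) (hc : H ⊓ centralizer (o2 H : Set G) ≤ o2 H) (hM : ¬ H ≤ M) :
    ∃ T F : Subgroup G, Pair K B V ZJ M T F ∧ ∀ j, j ∉ Phi Z T →
      centralizer (((⨆ i ∈ Phi Z T, Z i) ⊔ Z j : Subgroup G) : Set G) ≤ M := by
  classical
  have hS2 : IsPGroup 2 ZJ := h.lb.Bp.to_le h.lb.ZB
  -- choose
  let s : Set ℕ := {m | ∃ T F : Subgroup G, Pair K B V ZJ M T F ∧ (Phi Z T).ncard = m}
  have hs1 : s.Nonempty := by
    obtain ⟨T, F, hp, -⟩ := exists_pair h hBM hD hN hB hc hM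
    exact ⟨_, T, F, hp, rfl⟩
  have hs2 : s.Finite := by
    refine (Set.finite_Iic (Nat.card ι)).subset ?_
    rintro m ⟨T, F, -, rfl⟩
    rw [Set.mem_Iic, ← Set.ncard_univ]
    exact Set.ncard_le_ncard (Set.subset_univ _)
  obtain ⟨m, hm⟩ := hs2.exists_maximal hs1
  obtain ⟨T, F, hp, hcard⟩ := hm.prop
  refine ⟨T, F, hp, fun j hj => ?_⟩
  by_contra hcon
  set X : Subgroup G := (⨆ i ∈ Phi Z T, Z i) ⊔ Z j with hX
  have hXJ : X ≤ ZJ :=
    sup_le (iSup_le fun i => iSup_le fun _ => h.Z_le i) (h.Z_le j)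
  have hX1 : X ≠ ⊥ := by
    intro e
    obtain ⟨z, hz, hz1⟩ := Z_ne h j
    have h1 : z ∈ X := mem_sup_right hz
    rw [e, mem_bot] at h1
    exact hz1 h1
  have hBX : B ≤ centralizer (X : Set G) :=
    h.lb.Bc.trans (centralizer_le (by exact_mod_cast hXJ))
  obtain ⟨T', F', hp', hle⟩ := exists_pair h hBM hD hN hBX
    (char2_cent h.char2 (hS2.to_le hXJ) hX1) hcon
  have hfix : ∀ i, Z i ≤ X → i ∈ Phi Z T' := by
    intro i hi t ht
    have h1 := hle (hp'.syl.1 ht)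
    refine cj_eq_of_mem_normalizer (centralizer_le_normalizer _ ?_)
    exact centralizer_le (by exact_mod_cast hi) h1
  have hsub : insert j (Phi Z T) ⊆ Phi Z T' := by
    rintro i (rfl | hi)
    · exact hfix _ le_sup_right
    · exact hfix _ (le_sup_of_le_left (le_iSup₂ (f := fun i (_ : i ∈ Phi Z T) => Z i) i hi))
  have h2 : m + 1 ≤ (Phi Z T').ncard := by
    rw [← hcard, ← Set.ncard_insert_of_notMem hj (Set.toFinite _)]
    exact Set.ncard_le_ncard hsub (Set.toFinite _)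
  have h3 : (Phi Z T').ncard ≤ m := hm.le_of_ge ⟨T', F', hp', rfl⟩ (by show m ≤ (Phi Z T').ncard; omega)
  omega

omit [Finite ι] in
/-- `V` commutes with its conjugates under `F` if `V ≤ O₂(F)`, `B ≤ T`. -/
theorem comm_of_pair (h : Cr S K B V ZJ L W Z C) {M T F : Subgroup G} (hp : Pair K B V ZJ M T F) {f : G} (hf : f ∈ F)
    {x y : G} (hx : x ∈ V) (hy : y ∈ V) : x * (f * y * f⁻¹) = f * y * f⁻¹ * x := by
  have hO : o2 F ≤ T := o2_le_syl hp.syl
  have hcO : cj f (o2 F) = o2 F := cj_eq_of_mem_normalizer (le_normalizer_o2 F hf)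
  refine h.noff T hp.syl.2.1 hp.BT f ?_ ?_ x hx y hy
  · have := cj_mono f hp.VO
    rw [hcO] at this
    exact this.trans hO
  · have := cj_mono f hO
    rw [hcO] at this
    exact hp.VO.trans this

/-- **STEP 0**, from (TI). -/
theorem sit_of (h : Cr S K B V ZJ L W Z C) {M T F : Subgroup G} (hp : Pair K B V ZJ M T F)
    (hD : centralizer (ZJ : Set G) ≤ M) (hN : normalizer (B : Set G) ≤ M) {r : Set ι} (hr : Orb ZJ T F Z C r)
    (hti : ∀ i ∈ r, ∀ x ∈ W i, x ≠ 1 → ∀ f ∈ F, x ∈ cj f (⨆ j ∈ r, W j) → f ∈ M) :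
    ∃ (T F F₀ : Subgroup G) (𝓐 : Set (Subgroup G)) (κ : Type) (V' : κ → Subgroup G) (z : κ → G),
      SitF F T F₀ 𝓐 V' z := by
  classical
  have hZM : normalizer (ZJ : Set G) ≤ M := h.lb.norm_zj_le.trans (sup_le hD hN)
  have hTN : T ≤ normalizer (B : Set G) := h.lb.two_le hp.syl.2.1 hp.BT
  have hTM : T ≤ M := hTN.trans hN
  have hO : o2 F ≤ T := o2_le_syl hp.syl
  have hON : o2 F ≤ normalizer (B : Set G) := hO.trans hTN
  have hTF : T ≤ F := hp.syl.1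
  obtain ⟨𝓐, hfam, hnJ, hXB, hhat⟩ := h.fam M T F hp hD hZM hTM
  choose z hz hz1 using Z_ne h
  obtain ⟨⟨i₀, hi₀, j₀, hj₀r, hne₀⟩, htr, hrO, hsuppF, hrT, hrPhi⟩ := hr
  have hsup : (⨆ j : r, W j) = ⨆ j ∈ r, W j := iSup_subtype' (f := fun j (_ : j ∈ r) => W j) |>.symm
  have hWV : ∀ i, W i ≤ V := h.WV
  have hcomm : ∀ f ∈ F, ∀ x ∈ V, ∀ y ∈ V,
      x * (f * y * f⁻¹) = f * y * f⁻¹ * x := fun f hf x hx y hy => comm_of_pair h hp hf hx hy
  -- `Λ = ⟨V^F⟩` is elementary abelian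
  have hVel : IsElementaryAbelian 2 (NoFF.Basic.V (V) F) := by
    have h1 := Swap.elab_iSup (W := fun f : F => cj (f : G) (V)) (fun f f' x hx y hy => ?_)
      fun f x hx => ?_
    · exact Swap.elab_of h1.1 h1.2
    · rw [mem_cj] at hx hy
      have h2 := hcomm ((f : G)⁻¹ * f') (mul_mem (inv_mem f.2) f'.2) _ hx _ hy
      have e1 : (f : G)⁻¹ * f' * ((f' : G)⁻¹ * y * f') * ((f : G)⁻¹ * f')⁻¹ = (f : G)⁻¹ * y * f := by group
      rw [e1] at h2
      have h3 := congrArg (fun t => (f : G) * t * (f : G)⁻¹) h2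
      have e2 : (f : G) * ((f : G)⁻¹ * x * f * ((f : G)⁻¹ * y * f)) * (f : G)⁻¹ = x * y := by group
      have e3 : (f : G) * ((f : G)⁻¹ * y * f * ((f : G)⁻¹ * x * f)) * (f : G)⁻¹ = y * x := by group
      exact e2.symm.trans (h3.trans e3)
    · rw [mem_cj] at hx
      have h2 := SQ1.Bau.elem_sq h.el _ hx
      rw [pow_two] at h2
      have e : x * x = f * ((f : G)⁻¹ * x * f * ((f : G)⁻¹ * x * f)) * (f : G)⁻¹ := by group
      rw [e, h2]; group
  have hUV : (⨆ j : r, W j) ≤ V := iSup_le fun j => hWV j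
  have hLV : NoFF.Basic.V (⨆ j : r, W j) F ≤ NoFF.Basic.V (V) F :=
    NoFF.Basic.V_le fun f hf => (cj_mono f hUV).trans (NoFF.Basic.Z_le_V hf)
  have hUF : (⨆ j : r, W j) ≤ F := hUV.trans (hp.VO.trans (o2_le F))
  refine ⟨T, F, F ⊓ M, 𝓐, r, fun i => W i, fun i => z i, ?_⟩
  refine
    { syl := hp.syl
      TF₀ := le_inf hTF hTM
      F₀F := lt_of_le_of_ne inf_le_left fun e => hp.nM (inf_eq_left.1 e)
      max := fun K hTK hKF => le_inf hKF.le (hp.min K hTK hKF)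
      fam := hfam _ (Swap.elab_mono hVel hLV) ?_ OmThm.XD.X_le_normalizer_W hLV
      nJ := hnJ
      fin := inferInstance
      two := ⟨⟨i₀, hi₀⟩, ⟨j₀, hj₀r⟩, fun e => hne₀ (congrArg Subtype.val e)⟩
      card := fun i => by rw [(h.blk i).card, h.cardZ]
      zV := fun i => Z_W h _ (hz i)
      z1 := fun i => hz1 i
      VO := fun i => (hWV i).trans hp.VO
      sq := fun i x hx => by
        rw [← pow_two]
        exact SQ1.Bau.elem_sq h.el x (hWV i hx)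
      comm := fun f hf i j x hx y hy => comm_of_pair h hp hf (hWV i hx) (hWV j hy)
      ind := ?_
      perm := ?_
      tr := ?_
      nor := ?_
      hat := ?_
      mov := ?_
      zc := ?_
      ti := ?_ }
  · refine NoFF.Basic.V_le fun f hf => ?_
    have := cj_mono f hUF
    rwa [cj_eq_of_mem_normalizer (le_normalizer hf)] at this
  · rintro ⟨i, hi⟩ x hx hx'
    have h1 : (⨆ j : r, ⨆ _ : j ≠ ⟨i, hi⟩, W j) ≤ C i := by
      refine iSup_le fun j => iSup_le fun hj => ?_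
      exact h.WjC i j fun e => hj (Subtype.ext e.symm)
    have h2 : x ∈ W i ⊓ C i := mem_inf.2 ⟨hx, h1 hx'⟩
    rwa [h.dir i, mem_bot] at h2
  · rintro t ht ⟨i, hi⟩
    obtain ⟨j, h1, h2, -⟩ := perm h (hTN ht) i
    exact ⟨⟨j, hrT t ht i j h1 hi⟩, h2, conj_gen h h1 (hz i) (hz1 i) (hz j) (hz1 j)⟩
  · rintro ⟨i, hi⟩ ⟨j, hj⟩
    obtain ⟨o, ho, e⟩ := htr i hi j hj
    exact ⟨o, ho, W_cj h (hON ho) e⟩
  · rintro X hX hXT a ha ⟨i, hi⟩
    have hb := hXB X hX hXT ha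
    have key : ∀ b ∈ B, cj b (W i) ≤ W i := by
      rintro b hb _ ⟨w, hw, rfl⟩
      exact (h.blk i).BV hb hw
    refine le_antisymm (key a hb) ?_
    have := cj_mono a (key a⁻¹ (inv_mem hb))
    rwa [cj_cj_inv] at this
  · rintro X hX hXT ⟨i, hi⟩ hmv'
    obtain ⟨a, ha, h1, h2⟩ := hhat X hX hXT i hmv'
    exact ⟨a, ha, h1, fun j hj x hx => h2 j (fun e => hj (Subtype.ext e)) x hx⟩
  · rintro ⟨i, hi⟩
    obtain ⟨a, ha, ⟨v, hv, hne⟩, hac⟩ := h.mov i
    refine ⟨a, hp.BT ha, ⟨v, hv, hne⟩, fun j hj x hx => ?_⟩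
    exact hac x (h.WjC i j (fun e => hj (Subtype.ext e.symm)) hx)
  · rintro ⟨i, hi⟩ ⟨j, hj⟩ hij hall f hf
    have hij' : i ≠ j := fun e => hij (Subtype.ext e)
    have hall' : ∀ k ∈ r, k = i ∨ k = j := by
      intro k hk
      rcases hall ⟨k, hk⟩ with e | e
      · exact Or.inl (congrArg Subtype.val e)
      · exact Or.inr (congrArg Subtype.val e)
    refine hsuppF (z i * z j) (mul_mem (h.Z_le i (hz i)) (h.Z_le j (hz j))) (fun k => ?_) f hf
    by_cases hki : k = i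
    · subst hki
      rw [Subgroup.mul_mem_cancel_right _ (Z_C h hij' (hz j))]
      exact ⟨fun h1 => absurd h1 (not_mem_C h (hz k) (hz1 k)), fun h1 => absurd hi h1⟩
    · by_cases hkj : k = j
      · subst hkj
        rw [Subgroup.mul_mem_cancel_left _ (Z_C h hki (hz i))]
        exact ⟨fun h1 => absurd h1 (not_mem_C h (hz k) (hz1 k)), fun h1 => absurd hj h1⟩
      · refine ⟨fun _ hk => ?_, fun _ => mul_mem (Z_C h hki (hz i)) (Z_C h hkj (hz j))⟩
        rcases hall' k hk with e | e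
        · exact hki e
        · exact hkj e
  · rintro ⟨i, hi⟩ x hx hx1 f hf hxf
    rw [hsup] at hxf
    exact mem_inf.2 ⟨hf, hti i hi x hx hx1 f hf hxf⟩

/-- **STEP 0.** -/
theorem exists_sit (h : Cr S K B V ZJ L W Z C) {M H : Subgroup G} (hBM : BM K B M) (hLM : ∀ i, L i ≤ M)
    (hD : centralizer (ZJ : Set G) ≤ M) (hN : normalizer (B : Set G) ≤ M)
    (hB : B ≤ H) (hc : H ⊓ centralizer (o2 H : Set G) ≤ o2 H) (hM : ¬ H ≤ M) :
    ∃ (T F F₀ : Subgroup G) (𝓐 : Set (Subgroup G)) (κ : Type) (V' : κ → Subgroup G) (z : κ → G),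
      SitF F T F₀ 𝓐 V' z := by
  classical
  obtain ⟨T, F, hp, hcen⟩ := exists_max h hBM hD hN hB hc hM
  obtain ⟨r, hr⟩ := exists_orb h hp hD
  have hrPhi := hr.rPhi
  have hSM : (S : Subgroup G) ≤ M := (h.lb.two_le S.isPGroup' h.lb.BS).trans hN
  have hTN : T ≤ normalizer (B : Set G) := h.lb.two_le hp.syl.2.1 hp.BT
  have hO : o2 F ≤ T := o2_le_syl hp.syl
  choose z hz hz1 using Z_ne h
  -- the group `Z₀`
  set Z₀ : Subgroup G := ⨆ i ∈ Phi Z T, Z i with hZ₀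
  have hZ₀J : Z₀ ≤ ZJ := iSup_le fun i => iSup_le fun _ => h.Z_le i
  have hFZ₀ : F ≤ centralizer (Z₀ : Set G) := by
    rw [le_centralizer_iff]
    refine iSup_le fun i => iSup_le fun hi x hx => ?_
    refine hp.fix ⟨h.Z_le i hx, mem_centralizer_iff.2 fun o ho => ?_⟩
    exact cent_of_cj h (hi o (hO ho)) hx
  have hBZ₀ : B ≤ centralizer (Z₀ : Set G) :=
    h.lb.Bc.trans (centralizer_le (by exact_mod_cast hZ₀J))
  have hLZ₀ : ∀ j ∈ r, L j ≤ centralizer (Z₀ : Set G) := by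
    intro j hj
    rw [le_centralizer_iff]
    refine iSup_le fun i => iSup_le fun hi x hx => ?_
    rw [mem_centralizer_iff]
    intro l hl
    have hij : j ≠ i := by
      rintro rfl
      exact hrPhi _ hj hi
    exact h.LC j l hl x (h.Z_le i hx) (Z_C h hij hx)
  -- (TI)
  have hti : ∀ i ∈ r, ∀ x ∈ W i, x ≠ 1 → ∀ f ∈ F, x ∈ cj f (⨆ j ∈ r, W j) → f ∈ M := by
    intro i hi x hx hx1 f hf hxf
    obtain ⟨l, hl, hxl⟩ := UniPlus.cover_two (nb h i) hx
    rw [mem_cj] at hxl hxf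
    -- `C_G(Z₀ x) ≤ M`
    have hcx : ∀ u, u ∈ centralizer (Z₀ : Set G) → u * x = x * u → u ∈ M := by
      intro u hu hux
      have h1 : l⁻¹ * u * l ∈ M := by
        refine hcen i (hrPhi i hi) ?_
        rw [mem_centralizer_iff]
        intro y hy
        have h2 : ((⨆ i ∈ Phi Z T, Z i) ⊔ Z i : Subgroup G) ≤ centralizer ({l⁻¹ * u * l} : Set G) := by
          refine sup_le ?_ fun y hy => ?_
          · have h3 : l⁻¹ * u * l ∈ centralizer (Z₀ : Set G) :=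
              mul_mem (mul_mem (inv_mem (hLZ₀ i hi hl)) hu) (hLZ₀ i hi hl)
            intro y hy
            rw [mem_centralizer_singleton_iff]
            exact mem_centralizer_iff.1 h3 y hy
          · rw [mem_centralizer_singleton_iff]
            by_cases hy1 : y = 1
            · rw [hy1]; simp
            have h3 : l⁻¹ * x * l ≠ 1 := fun h4 => hx1 (by
              have h5 := congrArg (fun t => l * t * l⁻¹) h4
              simpa [mul_assoc] using h5)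
            have h4 := Z_eq h hy hxl hy1 h3
            rw [h4]
            have h5 := congrArg (fun t => l⁻¹ * t * l) hux
            simpa [mul_assoc] using h5.symm
        exact mem_centralizer_singleton_iff.1 (h2 hy)
      have h2 := mul_mem (mul_mem (hLM i hl) h1) (inv_mem (hLM i hl))
      have e : l * (l⁻¹ * u * l) * l⁻¹ = u := by group
      rwa [e] at h2
    obtain ⟨m, hm, hmx'⟩ := h.conjZ r _ hxf
    have hmx : m * (f⁻¹ * x * f) * m⁻¹ ∈ ZJ :=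
      (iSup₂_le fun i _ => h.Z_le i : (⨆ i ∈ r, Z i) ≤ ZJ) hmx'
    have hmM : m ∈ M := (iSup₂_le fun i (_ : i ∈ r) => hLM i : (⨆ i ∈ r, L i) ≤ M) hm
    have hmZ : m ∈ centralizer (Z₀ : Set G) :=
      (iSup₂_le fun i (hi : i ∈ r) => hLZ₀ i hi : (⨆ i ∈ r, L i) ≤ centralizer (Z₀ : Set G)) hm
    have hg : f * m⁻¹ ∈ M := by
      refine mem_of_cj_B_le h hSM hN ?_
      rintro _ ⟨b, hb, rfl⟩
      refine hcx _ ?_ ?_
      · have hgZ : f * m⁻¹ ∈ centralizer (Z₀ : Set G) := mul_mem (hFZ₀ hf) (inv_mem hmZ)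
        exact mul_mem (mul_mem hgZ (hBZ₀ hb)) (inv_mem hgZ)
      · have h1 := mem_centralizer_iff.1 (h.lb.Bc hb) _ hmx
        change (f * m⁻¹) * b * (f * m⁻¹)⁻¹ * x = x * ((f * m⁻¹) * b * (f * m⁻¹)⁻¹)
        have h2 := congrArg (fun t => (f * m⁻¹) * t * (f * m⁻¹)⁻¹) h1
        have e1 : (f * m⁻¹) * (m * (f⁻¹ * x * f) * m⁻¹ * b) * (f * m⁻¹)⁻¹ =
          x * ((f * m⁻¹) * b * (f * m⁻¹)⁻¹) := by group
        have e2 : (f * m⁻¹) * (b * (m * (f⁻¹ * x * f) * m⁻¹)) * (f * m⁻¹)⁻¹ =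
          (f * m⁻¹) * b * (f * m⁻¹)⁻¹ * x := by group
        have h3 : (f * m⁻¹) * (m * (f⁻¹ * x * f) * m⁻¹ * b) * (f * m⁻¹)⁻¹ =
            (f * m⁻¹) * (b * (m * (f⁻¹ * x * f) * m⁻¹)) * (f * m⁻¹)⁻¹ := by
          first
            | exact h2
            | exact h2.symm
        rw [e1, e2] at h3
        exact h3.symm
    have h3 := mul_mem hg hmM
    have e : f * m⁻¹ * m = f := by group
    rwa [e] at h3
  exact sit_of h hp hD hN hr hti

/-- **THEOREM SW** over an abstract frame. -/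
theorem le_of_char2' (hs : SitFFalse.{u}) (h : Cr S K B V ZJ L W Z C) {M H : Subgroup G} (hBM : BM K B M)
    (hLM : ∀ i, L i ≤ M) (hD : centralizer (ZJ : Set G) ≤ M) (hN : normalizer (B : Set G) ≤ M)
    (hB : B ≤ H) (hc : H ⊓ centralizer (o2 H : Set G) ≤ o2 H) : H ≤ M := by
  by_contra hM
  obtain ⟨T, F, F₀, 𝓐, κ, V', z, hS⟩ := exists_sit h hBM hLM hD hN hB hc hM
  exact hs G F T F₀ 𝓐 κ V' z hS

/-- **THEOREM SW** over an abstract frame: every subgroup of characteristic 2 over `B` is contained in every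
`M ≥ C_G(Z_J), L_i, N_G(B)`, if the minimal parabolics over `T ≥ B` which move `Ω₁Z(T)` are. -/
theorem le_of_char2 (h : Cr S K B V ZJ L W Z C) {M H : Subgroup G} (hBM : BM K B M)
    (hLM : ∀ i, L i ≤ M) (hD : centralizer (ZJ : Set G) ≤ M) (hN : normalizer (B : Set G) ≤ M)
    (hB : B ≤ H) (hc : H ⊓ centralizer (o2 H : Set G) ≤ o2 H) : H ≤ M :=
  le_of_char2' SwapL.sitFFalse h hBM hLM hD hN hB hc

/-- `K0 = ⟨C_G(Z_J), blocks⟩` normalises no 2-group `R ≠ 1`, if no 2-group `≠ 1` is normalised by `C_G(Ω₁Z(S))` and all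
members of `Pr` (parabolics over `S` which move `Ω₁Z(S)`). -/
theorem noOm (h : Cr S K B V ZJ L W Z C) (hF : Fam B ZJ (FBlk B))
    (hLM : ∀ i, L i ≤ K0 ZJ (FBlk B))
    (hBM : ∀ M : Subgroup G, K0 ZJ (FBlk B) ≤ M → normalizer (B : Set G) ≤ M → o2 M ≠ ⊥ → BM K B M)
    {Pr : Subgroup G → Prop}
    (hPr : ∀ P, Pr P → Syl (S : Subgroup G) P ∧ IsMinPar (S : Subgroup G) P ∧
      P ⊓ centralizer (o2 P : Set G) ≤ o2 P ∧ ¬ P ≤ centralizer (zc (S : Subgroup G) : Set G))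
    (hnon : ∀ R : Subgroup G, IsPGroup 2 R → (∀ P, Pr P → P ≤ normalizer (R : Set G)) →
      centralizer (zc (S : Subgroup G) : Set G) ≤ normalizer (R : Set G) → R = ⊥) :
    ∀ R : Subgroup G, IsPGroup 2 R → K0 ZJ (FBlk B) ≤ normalizer (R : Set G) → R = ⊥ := by
  by_contra hcon
  push Not at hcon
  obtain ⟨R, hR, hRn, hR1⟩ := hcon
  obtain ⟨ho, hoB, hle⟩ := hF.dich h.lb hR hR1 hRn
  set O : Subgroup G := o2 (K0 ZJ (FBlk B)) with hO
  set M : Subgroup G := normalizer (O : Set G) with hM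
  have hK : K0 ZJ (FBlk B) ≤ M := le_sup_left.trans hle
  have hN : normalizer (B : Set G) ≤ M := le_sup_right.trans hle
  have hSM : (S : Subgroup G) ≤ M := (h.lb.two_le S.isPGroup' h.lb.BS).trans hN
  have hoM : o2 M ≠ ⊥ := by
    intro e
    apply ho
    have h1 : O ≤ o2 M := le_o2 (isPGroup_o2 _) le_normalizer le_rfl
    rw [e] at h1
    exact le_bot_iff.1 h1
  have hD : centralizer (ZJ : Set G) ≤ M := LevD.cent_le_K0.trans hK
  have hZM : normalizer (ZJ : Set G) ≤ M := h.lb.norm_zj_le.trans (sup_le hD hN)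
  have hB := hBM M hK hN hoM
  have hB1 : B ≠ ⊥ := by
    intro e
    apply hoM
    have h0 : o2 M ≤ (S : Subgroup G) := o2_le_syl ⟨hSM, S.isPGroup', fun Q _ hQ h' => S.is_maximal' hQ h'⟩
    have h1 : zc (S : Subgroup G) ≤ B := h.zcS.trans h.lb.ZB
    rw [e, le_bot_iff] at h1
    have h2 : (S : Subgroup G) = ⊥ := by
      by_contra h3
      exact MinSimple.Basic.zc_ne_bot S.isPGroup' h3 h1
    rw [h2] at h0
    exact le_bot_iff.1 h0
  have hS1 : (S : Subgroup G) ≠ ⊥ := fun e => hB1 (by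
    have := h.lb.BS
    rw [e] at this
    exact le_bot_iff.1 this)
  have h1 := MinPar.isLoc_centralizer_zc S hS1
  have h2 : centralizer (zc (S : Subgroup G) : Set G) ≤ M :=
    le_of_char2 h hB (fun i => (hLM i).trans hK) hD hN (h.lb.BS.trans h1.le) (h1.char2 S h.char2)
  refine ho (hnon _ (isPGroup_o2 _) (fun P hP => ?_) h2)
  obtain ⟨hSP, hmP, hcP, hzP⟩ := hPr P hP
  by_cases hKP : K ≤ o2 P
  · exact ((le_normalizer_o2 P).trans (h.lb.nrm _ (isPGroup_o2 P) hKP)).trans hZM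
  · exact hB S P hSP h.lb.BS hmP hcP hKP hzP

end Cr

end Cfsg.Agent.Omega.OM.SwapV

end

section


/-!
# THEOREM SW over an abstract frame: supports and (TI) from `C_G(C_ZJ(T) z_j) ≤ M` only

* `Cr.exists_norm` : elements of `Z_J` which are conjugate in `G` are conjugate in `N_G(B)`; `supp_card` (INV);
  `full_cent` : an element of `Z_J` of full support is centralised by every 2-group over `B`;
* `CrA S K B V ZJ L W Z C A` : the ground frame with the offenders `A i ≤ B` acting only on `W i`;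
* `CrA.Ctx.ti` : `(T, F)` a pair, `r` an orbit of `O₂(F)` on the indices with at least two elements, `U = ∏_{j ∈ r} W j`:
  if `1 ≠ x ∈ W i`, `i ∈ r`, `f ∈ F` and `f⁻¹ x f ∈ U`, then `f ∈ M`.
-/

set_option autoImplicit false
set_option linter.unusedSectionVars false

namespace Cfsg.Agent.Omega.OM.SwapV

open Subgroup Cfsg Cfsg.Agent.ZN.ChoiceBase Cfsg.Agent.ZN.ChoiceSit
open Cfsg.Agent.ZN (jj zj bau zc zl o2)
open Cfsg.Agent.Omega.OM.LevD (LB)
open Cfsg.Agent.PLocal.ElemAbSup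
open Cfsg.Agent.Omega.SQ1.Bau (mem_sup_comm)
open Cfsg.Agent.Omega.OM.SwapL (cj_mul_eq cj_inv_eq)

universe u

variable {G : Type u} [Group G] [Finite G]

namespace Cr

section

variable {ι : Type} [Finite ι] {S : Sylow 2 G} {K B V ZJ : Subgroup G} {L W Z C : ι → Subgroup G}

/-- elements of `Z_J` which are conjugate in `G` are conjugate in `N_G(B)` -/
theorem exists_norm (h : Cr S K B V ZJ L W Z C) {z z' g : G} (hz : z ∈ ZJ)
    (hz' : z' ∈ ZJ) (e : g * z * g⁻¹ = z') :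
    ∃ m ∈ normalizer (B : Set G), m * z * m⁻¹ = z' := by
  have hB : B ≤ centralizer ({z'} : Set G) := by
    intro b hb
    rw [mem_centralizer_singleton_iff]
    exact (mem_centralizer_iff.1 (h.lb.Bc hb) z' hz').symm
  have hgB : cj g B ≤ centralizer ({z'} : Set G) := by
    rintro _ ⟨b, hb, rfl⟩
    rw [mem_centralizer_singleton_iff, ← e]
    have h1 := mem_centralizer_iff.1 (h.lb.Bc hb) z hz
    change g * b * g⁻¹ * (g * z * g⁻¹) = g * z * g⁻¹ * (g * b * g⁻¹)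
    calc g * b * g⁻¹ * (g * z * g⁻¹) = g * (b * z) * g⁻¹ := by group
      _ = g * (z * b) * g⁻¹ := by rw [h1]
      _ = g * z * g⁻¹ * (g * b * g⁻¹) := by group
  obtain ⟨T, hT, hBT⟩ := exists_syl h.lb.Bp hB
  obtain ⟨T', hT', hBT'⟩ := exists_syl (isPGroup_cj g h.lb.Bp) hgB
  obtain ⟨c, hc, rfl⟩ := syl_conj hT hT'
  have h3 : cj (c⁻¹ * g) B ≤ T := by
    have := cj_mono c⁻¹ hBT'
    rwa [cj_inv_cj, cj_cj] at this
  have h4 := h.wc T hT.2.1 hBT _ h3
  refine ⟨c⁻¹ * g, mem_normalizer_iff_cj.2 h4, ?_⟩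
  have h5 : c * z' = z' * c := mem_centralizer_singleton_iff.1 hc
  calc c⁻¹ * g * z * (c⁻¹ * g)⁻¹ = c⁻¹ * (g * z * g⁻¹) * c := by group
    _ = c⁻¹ * (z' * c) := by rw [e]; group
    _ = z' := by rw [← h5]; group

/-- **(INV)** -/
theorem supp_card (h : Cr S K B V ZJ L W Z C) {z z' g : G} (hz : z ∈ ZJ)
    (hz' : z' ∈ ZJ) (e : g * z * g⁻¹ = z') : {i | z' ∉ C i}.ncard = {i | z ∉ C i}.ncard := by
  obtain ⟨m, hm, e'⟩ := exists_norm h hz hz' e
  choose σ hσ _ hσC using perm h hm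
  have hinj : Function.Injective σ := fun i j hij => by
    apply Z_inj h
    have h1 := hσ i
    rw [hij, ← hσ j] at h1
    have := congrArg (cj m⁻¹) h1
    rwa [cj_inv_cj, cj_inv_cj] at this
  have hsur : Function.Surjective σ := Finite.surjective_of_injective hinj
  have h1 : {i | z' ∉ C i} = σ '' {i | z ∉ C i} := by
    ext j
    constructor
    · intro hj
      obtain ⟨i, rfl⟩ := hsur j
      refine ⟨i, fun hc => hj ?_, rfl⟩
      rw [← e']
      exact (hσC i z hz).2 hc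
    · rintro ⟨i, hi, rfl⟩ hc
      rw [← e'] at hc
      exact hi ((hσC i z hz).1 hc)
  rw [h1, Set.ncard_image_of_injective _ hinj]

theorem supp_one (h : Cr S K B V ZJ L W Z C) {i : ι} {z : G} (hz : z ∈ Z i) (h1 : z ≠ 1) : {j | z ∉ C j} = {i} := by
  ext j
  constructor
  · intro hj
    by_contra hne
    exact hj (Z_C h hne hz)
  · rintro rfl
    exact not_mem_C h hz h1

theorem supp_two (h : Cr S K B V ZJ L W Z C) {i j : ι} (hij : i ≠ j) {z w : G} (hz : z ∈ Z i) (h1 : z ≠ 1)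
    (hw : w ∈ Z j) (h2 : w ≠ 1) : {k | z * w ∉ C k} = {i, j} := by
  ext k
  simp only [Set.mem_ofPred_eq, Set.mem_insert_iff, Set.mem_singleton_iff]
  constructor
  · intro hk
    by_contra hne
    push Not at hne
    exact hk (mul_mem (Z_C h hne.1 hz) (Z_C h hne.2 hw))
  · rintro (rfl | rfl) hc
    · exact not_mem_C h hz h1 ((Subgroup.mul_mem_cancel_right _ (Z_C h hij hw)).1 hc)
    · exact not_mem_C h hw h2 ((Subgroup.mul_mem_cancel_left _ (Z_C h (Ne.symm hij) hz)).1 hc)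

/-- `z_i z_k` is not conjugate to `z_j`. -/
theorem no_one_two (h : Cr S K B V ZJ L W Z C) {i k j : ι} (hik : i ≠ k) {a b c g : G} (ha : a ∈ Z i) (ha1 : a ≠ 1)
    (hb : b ∈ Z k) (hb1 : b ≠ 1) (hc : c ∈ Z j) (e : g * (a * b) * g⁻¹ = c) : False := by
  have hc1 : c ≠ 1 := by
    intro h1
    rw [h1] at e
    have h2 : a * b = 1 := by
      have := congrArg (fun t => g⁻¹ * t * g) e
      simpa [mul_assoc] using this
    have h3 : a ∈ C i := by
      have h4 : a = b⁻¹ := mul_eq_one_iff_eq_inv.1 h2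
      rw [h4]
      exact inv_mem (Z_C h hik hb)
    exact not_mem_C h ha ha1 h3
  have h1 := supp_card h (mul_mem (h.Z_le i ha) (h.Z_le k hb)) (h.Z_le j hc) e
  rw [supp_one h hc hc1, supp_two h hik ha ha1 hb hb1, Set.ncard_singleton, Set.ncard_pair hik] at h1
  omega

/-- A conjugate of `z_i` in `Z_J` is a `z_j`. -/
theorem eq_single (h : Cr S K B V ZJ L W Z C) {i : ι} {a y g : G} (ha : a ∈ Z i) (ha1 : a ≠ 1)
    (hy : y ∈ ZJ) (e : g * a * g⁻¹ = y) : ∃ j, y ∈ Z j ∧ y ∉ C j := by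
  have h1 := supp_card h (h.Z_le i ha) hy e
  rw [supp_one h ha ha1, Set.ncard_singleton, Set.ncard_eq_one] at h1
  obtain ⟨j, hj⟩ := h1
  obtain ⟨z, hz, hz1⟩ := Z_ne h j
  have hyj : y ∉ C j := by
    have : j ∈ {i | y ∉ C i} := by rw [hj]; exact rfl
    exact this
  refine ⟨j, ?_, hyj⟩
  have h2 : y = z := eq_of_supp h hy (h.Z_le j hz) fun k => by
    have h3 : k ∈ {i | y ∉ C i} ↔ k ∈ {i | z ∉ C i} := by rw [hj, supp_one h hz hz1]
    simp only [Set.mem_ofPred_eq] at h3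
    exact not_iff_not.1 h3
  rw [h2]
  exact hz

/-- An element of full support is centralised by every 2-group over `B`. -/
theorem full_cent (h : Cr S K B V ZJ L W Z C) {z : G} (hz : z ∈ ZJ) (hf : ∀ i, z ∉ C i)
    {T : Subgroup G} (hT : IsPGroup 2 T) (hB : B ≤ T) {t : G} (ht : t ∈ T) : t * z = z * t :=
  comm_of_supp h (h.lb.two_le hT hB ht) hz fun i j _ => ⟨fun hc => absurd hc (hf i), fun hc => absurd hc (hf j)⟩


/-- `B` centralises `Z_J` -/
theorem zB (h : Cr S K B V ZJ L W Z C) {z b : G} (hz : z ∈ ZJ) (hb : b ∈ B) : b * z = z * b :=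
  (mem_centralizer_iff.1 (h.lb.Bc hb) z hz).symm

/-- `B` acts on `W i` by transvections. -/
theorem act (h : Cr S K B V ZJ L W Z C) {i : ι} {z : G} (hz : z ∈ Z i) (hz1 : z ≠ 1) {b : G} (hb : b ∈ B) {x : G}
    (hx : x ∈ W i) : b * x * b⁻¹ = x ∨ b * x * b⁻¹ = x * z := by
  have h1 := (h.blk i).com b hb x hx
  by_cases h2 : b * x * b⁻¹ * x⁻¹ = 1
  · left; exact mul_inv_eq_one.1 h2
  · right
    have h3 := Z_eq h h1 hz h2 hz1
    have h4 : b * x * b⁻¹ = z * x := mul_inv_eq_iff_eq_mul.1 h3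
    rw [h4]
    exact h.Vc (h.ZV i hz) (h.WV i hx)

/-- an element of `W i` outside `Z i` and its multiples -/
theorem W_cases (h : Cr S K B V ZJ L W Z C) {i : ι} {x w : G} (hx : x ∈ W i) (hxZ : x ∉ Z i) (hw : w ∈ W i) :
    w ∈ Z i ∨ w * x⁻¹ ∈ Z i := by
  by_cases hwZ : w ∈ Z i
  · exact Or.inl hwZ
  right
  have h1 : ((Z i).subgroupOf (W i)).index = 2 := by
    have h2 := relIndex_mul_relIndex ⊥ (Z i) (W i) bot_le (Z_W h i)
    rw [relIndex_bot_left, relIndex_bot_left, (h.blk i).card, h.cardZ i] at h2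
    have h3 : (Z i).relIndex (W i) = 2 := by omega
    exact h3
  have h2 : (⟨w, hw⟩ : W i) * ⟨x⁻¹, inv_mem hx⟩ ∈ (Z i).subgroupOf (W i) := by
    rw [Subgroup.mul_mem_iff_of_index_two h1]
    constructor
    · intro h3
      exact absurd (mem_subgroupOf.1 h3) hwZ
    · intro h3
      exact absurd (inv_mem_iff.1 (mem_subgroupOf.1 h3)) hxZ
  exact mem_subgroupOf.1 h2

/-- `b ∈ B` which moves `W i` moves every element of `W i` outside `Z i`. -/
theorem mv_act (h : Cr S K B V ZJ L W Z C) {i : ι} {b z : G} (hb : b ∈ B)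
    (hm : ∃ w ∈ W i, b * w ≠ w * b) (hz : z ∈ Z i) (hz1 : z ≠ 1) {x : G} (hx : x ∈ W i) (hxZ : x ∉ Z i) :
    b * x * b⁻¹ = x * z := by
  rcases act h hz hz1 hb hx with h1 | h1
  · exfalso
    obtain ⟨w, hw, hne⟩ := hm
    apply hne
    have c1 : Commute b x := mul_inv_eq_iff_eq_mul.1 h1
    have cZ : ∀ y ∈ Z i, Commute b y := fun y hy => mul_inv_eq_iff_eq_mul.1 (by
      rw [(h.blk i).cZ b hb y hy]; group)
    rcases W_cases h hx hxZ hw with h2 | h2
    · exact (cZ w h2).eq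
    · have h3 := (cZ _ h2).mul_right c1
      rw [inv_mul_cancel_right] at h3
      exact h3.eq
  · exact h1

/-- two elements of `B` which move `W i` act in the same way on `W i` -/
theorem same_act (h : Cr S K B V ZJ L W Z C) {i : ι} {a b : G} (ha : a ∈ B)
    (hb : b ∈ B) (hma : ∃ w ∈ W i, a * w ≠ w * a) (hmb : ∃ w ∈ W i, b * w ≠ w * b) {x : G}
    (hx : x ∈ W i) : a * x * a⁻¹ = b * x * b⁻¹ := by
  obtain ⟨z, hz, hz1⟩ := Z_ne h i
  by_cases hxZ : x ∈ Z i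
  · rw [(h.blk i).cZ a ha x hxZ, (h.blk i).cZ b hb x hxZ]; group
  · rw [mv_act h ha hma hz hz1 hx hxZ, mv_act h hb hmb hz hz1 hx hxZ]


end

end Cr

/-- The ground frame with offenders. -/
structure CrA {ι : Type} (S : Sylow 2 G) (K B V ZJ : Subgroup G) (L W Z C A : ι → Subgroup G) : Prop extends
    Cr S K B V ZJ L W Z C where
  WC : ∀ i, ∀ v ∈ V, ∃ w ∈ W i, ∃ c ∈ C i, v = w * c
  AB : ∀ i, A i ≤ B
  Ane : ∀ i, ¬ ∀ a ∈ A i, ∀ v ∈ W i, a * v = v * a
  AC : ∀ i, ∀ a ∈ A i, ∀ c ∈ C i, a * c = c * a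
  fmem : ∀ v ∈ V, (∀ i, ∀ a ∈ A i, a * v = v * a) → v ∈ ZJ
  fnWr : ∀ (r : Set ι) (i : ι), i ∈ r → ∀ l ∈ L i, ∀ x ∈ ⨆ j ∈ r, W j, l * x * l⁻¹ ∈ ⨆ j ∈ r, W j
  fstep : ∀ i, ∀ v ∈ V, ∃ l ∈ L i, ∀ a ∈ A i, a * (l * v * l⁻¹) = l * v * l⁻¹ * a
  fkeep : ∀ i j, i ≠ j → ∀ l ∈ L i, ∀ v ∈ V, (∀ a ∈ A j, a * v = v * a) →
    ∀ a ∈ A j, a * (l * v * l⁻¹) = l * v * l⁻¹ * a

namespace CrA

open Cr

variable {ι : Type} [Finite ι] {S : Sylow 2 G} {K B V ZJ : Subgroup G} {L W Z C A : ι → Subgroup G}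

omit [Finite ι] in
theorem A_comm (h : CrA S K B V ZJ L W Z C A) {i : ι} {a : G} (ha : a ∈ A i) {v : G} (hv : v ∈ V) :
    a * v * a⁻¹ * v⁻¹ ∈ Z i := by
  obtain ⟨w, hw, c, hc, rfl⟩ := h.WC i v hv
  have h1 := h.AC i a ha c hc
  have e : a * (w * c) * a⁻¹ * (w * c)⁻¹ = a * w * a⁻¹ * (a * c * a⁻¹) * c⁻¹ * w⁻¹ := by group
  have e2 : a * c * a⁻¹ = c := mul_inv_eq_iff_eq_mul.2 h1
  rw [e, e2, mul_inv_cancel_right]
  exact (h.blk i).com a (h.AB i ha) w hw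

omit [Finite ι] in
theorem mem_ZJ_of (h : CrA S K B V ZJ L W Z C A) {v : G} (hv : v ∈ V)
    (hA : ∀ i, ∀ a ∈ A i, a * v = v * a) : v ∈ ZJ := h.fmem v hv hA

omit [Finite ι] in
theorem nWr (h : CrA S K B V ZJ L W Z C A) {r : Set ι} {i : ι} (hi : i ∈ r) {l : G} (hl : l ∈ L i) {x : G}
    (hx : x ∈ ⨆ j ∈ r, W j) : l * x * l⁻¹ ∈ ⨆ j ∈ r, W j := h.fnWr r i hi l hl x hx

omit [Finite ι] in
theorem step (h : CrA S K B V ZJ L W Z C A) (i : ι) {v : G} (hv : v ∈ V) :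
    ∃ l ∈ L i, ∀ a ∈ A i, a * (l * v * l⁻¹) = l * v * l⁻¹ * a := h.fstep i v hv

omit [Finite ι] in
theorem keep (h : CrA S K B V ZJ L W Z C A) {i j : ι} (hij : i ≠ j) {l v : G} (hl : l ∈ L i) (hv : v ∈ V)
    (hj : ∀ a ∈ A j, a * v = v * a) : ∀ a ∈ A j, a * (l * v * l⁻¹) = l * v * l⁻¹ * a :=
  h.fkeep i j hij l hl v hv hj

/-- a member of `A i` which moves `W i` -/
theorem exists_tv (h : CrA S K B V ZJ L W Z C A) (i : ι) : ∃ a ∈ A i, ∃ w ∈ W i, a * w ≠ w * a := by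
  have := h.Ane i
  push Not at this
  exact this

/-- The data of (TI). -/
structure Ctx (S : Sylow 2 G) (K B V ZJ : Subgroup G) (L W Z C A : ι → Subgroup G) (M T F : Subgroup G)
    (r : Set ι) (z : ι → G) (tv : ι → G) : Prop where
  h : CrA S K B V ZJ L W Z C A
  hp : Pair K B V ZJ M T F
  LM : ∀ i, L i ≤ M
  NM : normalizer (B : Set G) ≤ M
  cen : ∀ i ∈ r, centralizer ((ZJ ⊓ centralizer (T : Set G) ⊔ Z i : Subgroup G) : Set G) ≤ M
  zZ : ∀ i, z i ∈ Z i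
  zn : ∀ i, z i ≠ 1
  tvA : ∀ i, tv i ∈ A i
  tvm : ∀ i, ∃ w ∈ W i, tv i * w ≠ w * tv i
  tr : ∀ i ∈ r, ∀ j ∈ r, ∃ o ∈ o2 F, cj o (Z i) = Z j
  inv : ∀ o ∈ o2 F, ∀ i j, cj o (Z i) = Z j → (i ∈ r ↔ j ∈ r)
  nt : ∀ i ∈ r, ∃ j ∈ r, j ≠ i

namespace Ctx

variable {M T F : Subgroup G} {r : Set ι} {z tv : ι → G} (c : Ctx S K B V ZJ L W Z C A M T F r z tv)
include c

theorem tvB (i : ι) : tv i ∈ B := c.h.AB i (c.tvA i)

theorem O_le : o2 F ≤ T := o2_le_syl c.hp.syl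

theorem TN : T ≤ normalizer (B : Set G) := c.h.lb.two_le c.hp.syl.2.1 c.hp.BT

theorem ON {o : G} (ho : o ∈ o2 F) : o ∈ normalizer (B : Set G) := c.TN (c.O_le ho)

theorem TF : T ≤ F := c.hp.syl.1

theorem TM : T ≤ M := c.TN.trans c.NM

theorem OF {o f : G} (ho : o ∈ o2 F) (hf : f ∈ F) : f * o * f⁻¹ ∈ o2 F :=
  (mem_normalizer_iff.1 (le_normalizer_o2 F hf) o).1 ho

theorem OF' {o f : G} (ho : o ∈ o2 F) (hf : f ∈ F) : f⁻¹ * o * f ∈ o2 F := by
  have := c.OF ho (inv_mem hf)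
  rwa [inv_inv] at this

/-- `z i` moves to `z j` -/
theorem gen {o : G} {i j : ι} (e : cj o (Z i) = Z j) : o * z i * o⁻¹ = z j :=
  conj_gen c.h.toCr e (c.zZ i) (c.zn i) (c.zZ j) (c.zn j)

theorem eqz {i : ι} {x : G} (hx : x ∈ Z i) (h1 : x ≠ 1) : x = z i := Z_eq c.h.toCr hx (c.zZ i) h1 (c.zn i)

theorem zU {i : ι} (hi : i ∈ r) : z i ∈ ⨆ j ∈ r, W j :=
  (le_iSup₂_of_le i hi le_rfl : W i ≤ ⨆ j ∈ r, W j) (Z_W c.h.toCr i (c.zZ i))

theorem UV : (⨆ j ∈ r, W j) ≤ V := iSup₂_le fun i _ => c.h.WV i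

/-- `O₂(F)` normalises `U`. -/
theorem nU {o u : G} (ho : o ∈ o2 F) (hu : u ∈ ⨆ j ∈ r, W j) : o * u * o⁻¹ ∈ ⨆ j ∈ r, W j := by
  have h1 : (⨆ j ∈ r, W j) ≤ (⨆ j ∈ r, W j).comap (MulAut.conj o).toMonoidHom := by
    refine iSup₂_le fun j hj w hw => ?_
    change o * w * o⁻¹ ∈ ⨆ j ∈ r, W j
    obtain ⟨k, hk, hkW, -⟩ := perm c.h.toCr (c.ON ho) j
    have hkr := (c.inv o ho j k hk).1 hj
    refine (le_iSup₂_of_le k hkr le_rfl : W k ≤ ⨆ j ∈ r, W j) ?_
    rw [← hkW]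
    exact ⟨w, hw, rfl⟩
  exact h1 hu

/-- `F` centralises `C_ZJ(T)`. -/
theorem F_cent {x f : G} (hx : x ∈ ZJ ⊓ centralizer (T : Set G)) (hf : f ∈ F) : f * x = x * f := by
  have h1 : x ∈ centralizer (F : Set G) :=
    c.hp.fix ⟨hx.1, centralizer_le (by exact_mod_cast c.O_le) hx.2⟩
  exact mem_centralizer_iff.1 h1 f hf

/-- The end: `g ∈ C_G(C_ZJ(T))` which centralises `z i` lies in `M`. -/
theorem mem_M {g : G} {i : ι} (hi : i ∈ r)
    (hg : ∀ x ∈ ZJ ⊓ centralizer (T : Set G), g * x = x * g) (hz : g * z i * g⁻¹ = z i) : g ∈ M := by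
  refine c.cen i hi ?_
  have h1 : (ZJ ⊓ centralizer (T : Set G) ⊔ Z i : Subgroup G) ≤ centralizer ({g} : Set G) := by
    refine sup_le (fun x hx => ?_) fun x hx => ?_ <;> rw [mem_centralizer_singleton_iff]
    · exact (hg x hx).symm
    · by_cases hx1 : x = 1
      · rw [hx1]; simp
      · rw [c.eqz hx hx1]
        exact (mul_inv_eq_iff_eq_mul.1 hz).symm
  rw [mem_centralizer_iff]
  intro x hx
  exact mem_centralizer_singleton_iff.1 (h1 hx)

/-- the action of `tv l` on `U` is that of any `b ∈ B` moving `W l` and centralising the other `W m`, `m ∈ r` -/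
theorem tv_act {l : ι} {b u : G} (hb : b ∈ B) (hm : ∃ w ∈ W l, b * w ≠ w * b)
    (hc : ∀ m ∈ r, m ≠ l → ∀ w ∈ W m, b * w = w * b) (hu : u ∈ ⨆ j ∈ r, W j) :
    b * u * b⁻¹ = tv l * u * (tv l)⁻¹ := by
  have h1 : (⨆ j ∈ r, W j) ≤ centralizer ({(tv l)⁻¹ * b} : Set G) := by
    refine iSup₂_le fun m hmr w hw => ?_
    rw [mem_centralizer_singleton_iff]
    have h2 : b * w * b⁻¹ = tv l * w * (tv l)⁻¹ := by
      by_cases hml : m = l
      · subst hml
        exact same_act c.h.toCr hb (c.tvB m) hm (c.tvm m) hw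
      · rw [hc m hmr hml w hw, c.h.AC l (tv l) (c.tvA l) w (c.h.WjC l m (Ne.symm hml) hw)]; group
    calc w * ((tv l)⁻¹ * b) = (tv l)⁻¹ * (tv l * w * (tv l)⁻¹) * b := by group
      _ = (tv l)⁻¹ * (b * w * b⁻¹) * b := by rw [h2]
      _ = (tv l)⁻¹ * b * w := by group
  have h2 := mem_centralizer_singleton_iff.1 (h1 hu)
  calc b * u * b⁻¹ = tv l * ((tv l)⁻¹ * b * u) * b⁻¹ := by group
    _ = tv l * (u * ((tv l)⁻¹ * b)) * b⁻¹ := by rw [h2]
    _ = _ := by group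

/-- an element of `V` moved by `tv j` moves to `u z_j` -/
theorem tv_mv {j : ι} {u : G} (hu : u ∈ V) (hm : tv j * u ≠ u * tv j) :
    tv j * u * (tv j)⁻¹ = u * z j := by
  have h1 := c.h.A_comm (c.tvA j) hu
  have h2 : tv j * u * (tv j)⁻¹ * u⁻¹ ≠ 1 := fun e => hm (mul_inv_eq_iff_eq_mul.1 (mul_inv_eq_one.1 e))
  have h3 := c.eqz h1 h2
  have h4 : tv j * u * (tv j)⁻¹ = z j * u := mul_inv_eq_iff_eq_mul.1 h3
  rw [h4]
  exact c.h.Vc (c.h.ZV j (c.zZ j)) hu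

theorem tv_z (i j : ι) : tv j * z i = z i * tv j :=
  c.h.zB (c.h.Z_le i (c.zZ i)) (c.tvB j)

/-- the element `o tv_j o⁻¹ tv_j⁻¹` of `O₂(F)` -/
theorem com_act {o : G} (ho : o ∈ o2 F) {j l : ι} (hj : j ∈ r) (e : cj o (Z j) = Z l) {u : G}
    (hu : u ∈ ⨆ j ∈ r, W j) (hm : tv j * u ≠ u * tv j) :
    ∃ o' ∈ o2 F, (tv l * u = u * tv l → o' * u * o'⁻¹ = u * z j) ∧
      (tv l * u ≠ u * tv l → o' * u * o'⁻¹ = u * z l * z j) := by
  have huV := c.UV hu
  have h1 : ∀ v ∈ ⨆ j ∈ r, W j, (o * tv j * o⁻¹) * v * (o * tv j * o⁻¹)⁻¹ = tv l * v * (tv l)⁻¹ := by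
    intro v hv
    have hoN := c.ON ho
    have hW := W_cj c.h.toCr hoN e
    refine c.tv_act ?_ ?_ ?_ hv
    · rw [← cj_eq_of_mem_normalizer hoN]
      exact ⟨tv j, c.tvB j, rfl⟩
    · obtain ⟨w, hw, hne⟩ := c.tvm j
      refine ⟨o * w * o⁻¹, by rw [← hW]; exact ⟨w, hw, rfl⟩, fun h2 => hne ?_⟩
      have := congrArg (fun t => o⁻¹ * t * o) h2
      simpa [mul_assoc] using this
    · intro m hmr hml w hw
      -- `W m = (W m')^o`, `m' ≠ j`
      obtain ⟨k, hk, hkW, -⟩ := perm c.h.toCr (inv_mem hoN) m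
      have hkj : k ≠ j := by
        rintro rfl
        apply hml
        apply Z_inj c.h.toCr
        rw [← e, ← hk, cj_cj_inv]
      have h2 : o⁻¹ * w * o ∈ W k := by
        rw [← hkW]
        exact ⟨w, hw, by change o⁻¹ * w * o⁻¹⁻¹ = _; rw [inv_inv]⟩
      have h3 := c.h.AC j (tv j) (c.tvA j) _ (c.h.WjC j k (Ne.symm hkj) h2)
      calc o * tv j * o⁻¹ * w = o * (tv j * (o⁻¹ * w * o)) * o⁻¹ := by group
        _ = o * ((o⁻¹ * w * o) * tv j) * o⁻¹ := by rw [h3]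
        _ = w * (o * tv j * o⁻¹) := by group
  have hz := c.tv_z
  -- `tv_j⁻¹ u tv_j = u z_j`
  have h2 : (tv j)⁻¹ * u * tv j = u * z j := by
    have h3 := c.tv_mv huV hm
    have h4 : u = (tv j)⁻¹ * (u * z j) * tv j := by rw [← h3]; group
    have h5 : (tv j)⁻¹ * (u * z j) * tv j = (tv j)⁻¹ * u * tv j * z j := by
      have h6 := hz j j
      calc (tv j)⁻¹ * (u * z j) * tv j = (tv j)⁻¹ * u * (z j * tv j) := by group
        _ = (tv j)⁻¹ * u * (tv j * z j) := by rw [h6]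
        _ = _ := by group
    have h6 : z j * z j = 1 := by
      have := SQ1.Bau.elem_sq c.h.el (z j) (c.h.ZV j (c.zZ j))
      rwa [pow_two] at this
    have h7 : (tv j)⁻¹ * u * tv j = (tv j)⁻¹ * u * tv j * z j * z j := by rw [mul_assoc _ (z j) (z j), h6, mul_one]
    rw [h7, ← h5, ← h4]
  refine ⟨o * tv j * o⁻¹ * (tv j)⁻¹, ?_, ?_, ?_⟩
  · have h3 : tv j ∈ F := c.TF (c.hp.BT (c.tvB j))
    have h4 := mul_mem ho (c.OF (inv_mem ho) h3)
    have e1 : o * (tv j * o⁻¹ * (tv j)⁻¹) = o * tv j * o⁻¹ * (tv j)⁻¹ := by group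
    rwa [e1] at h4
  · intro hl
    have e1 : o * tv j * o⁻¹ * (tv j)⁻¹ * u * (o * tv j * o⁻¹ * (tv j)⁻¹)⁻¹ =
      (o * tv j * o⁻¹) * ((tv j)⁻¹ * u * tv j) * (o * tv j * o⁻¹)⁻¹ := by group
    rw [e1, h2, h1 _ (mul_mem hu (c.zU hj))]
    have e2 : tv l * (u * z j) * (tv l)⁻¹ = (tv l * u) * z j * (tv l)⁻¹ := by group
    rw [e2, hl]
    have e3 : u * tv l * z j * (tv l)⁻¹ = u * (tv l * z j) * (tv l)⁻¹ := by group
    rw [e3, hz j l]; group
  · intro hl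
    have e1 : o * tv j * o⁻¹ * (tv j)⁻¹ * u * (o * tv j * o⁻¹ * (tv j)⁻¹)⁻¹ =
      (o * tv j * o⁻¹) * ((tv j)⁻¹ * u * tv j) * (o * tv j * o⁻¹)⁻¹ := by group
    rw [e1, h2, h1 _ (mul_mem hu (c.zU hj))]
    have e2 : tv l * (u * z j) * (tv l)⁻¹ = (tv l * u * (tv l)⁻¹) * (tv l * z j * (tv l)⁻¹) := by group
    have e3 : tv l * z j * (tv l)⁻¹ = z j := by rw [hz j l]; group
    rw [e2, e3, c.tv_mv huV hl]

theorem UC {j : ι} (hj : j ∉ r) : (⨆ j ∈ r, W j) ≤ C j :=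
  iSup₂_le fun m hm => c.h.WjC j m fun e => hj (e ▸ hm)

theorem cV {u v : G} (hu : u ∈ V) (hv : v ∈ V) : u * v = v * u :=
  c.h.Vc hu hv

theorem sqV {u : G} (hu : u ∈ V) : u * u = 1 := by
  have := SQ1.Bau.elem_sq c.h.el u hu
  rwa [pow_two] at this

theorem zV (i : ι) : z i ∈ V := c.h.ZV i (c.zZ i)

/-- elements of `Z_J` with support `r` are centralised by `F` -/
theorem r_cent {x : G} (hx : x ∈ ZJ) (hs : ∀ k, x ∈ C k ↔ k ∉ r) {f : G} (hf : f ∈ F) :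
    f * x = x * f := by
  have h1 : x ∈ centralizer (F : Set G) := c.hp.fix ⟨hx, mem_centralizer_iff.2 fun o ho =>
    comm_of_supp c.h.toCr (c.ON ho) hx fun i j e => by rw [hs i, hs j, c.inv o ho i j e]⟩
  exact mem_centralizer_iff.1 h1 f hf

/-! ### The conjugates `f⁻¹ z_p f` -/

theorem yU {f : G} (hf : f ∈ F) {i : ι} (hi : i ∈ r) (hy : f⁻¹ * z i * f ∈ ⨆ j ∈ r, W j) {p : ι} (hp : p ∈ r) :
    f⁻¹ * z p * f ∈ ⨆ j ∈ r, W j := by
  obtain ⟨o, ho, e⟩ := c.tr i hi p hp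
  have h1 := c.nU (c.OF' ho hf) hy
  have e1 : f⁻¹ * o * f * (f⁻¹ * z i * f) * (f⁻¹ * o * f)⁻¹ = f⁻¹ * (o * z i * o⁻¹) * f := by group
  rwa [e1, c.gen e] at h1

theorem yorb {f : G} (hf : f ∈ F) {o : G} (ho : o ∈ o2 F) {p : ι} (hp : p ∈ r) :
    ∃ p' ∈ r, o * (f⁻¹ * z p * f) * o⁻¹ = f⁻¹ * z p' * f := by
  have ho' := c.OF ho hf
  obtain ⟨p', h1, -, -⟩ := perm c.h.toCr (c.ON ho') p
  refine ⟨p', (c.inv _ ho' p p' h1).1 hp, ?_⟩
  have e1 : o * (f⁻¹ * z p * f) * o⁻¹ = f⁻¹ * (f * o * f⁻¹ * z p * (f * o * f⁻¹)⁻¹) * f := by group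
  rw [e1, c.gen h1]

/-- **(A)** -/
theorem mv_all {f : G} (hf : f ∈ F) (hU : ∀ p ∈ r, f⁻¹ * z p * f ∈ ⨆ j ∈ r, W j) {p j l : ι} (hp : p ∈ r)
    (hj : j ∈ r) (hl : l ∈ r) (hm : tv j * (f⁻¹ * z p * f) ≠ f⁻¹ * z p * f * tv j) :
    tv l * (f⁻¹ * z p * f) ≠ f⁻¹ * z p * f * tv l := by
  intro hn
  obtain ⟨o, ho, e⟩ := c.tr j hj l hl
  obtain ⟨o', ho', h1, -⟩ := c.com_act ho hj e (hU p hp) hm
  obtain ⟨p', hp', h2⟩ := c.yorb hf ho' hp
  rw [h1 hn] at h2
  have h3 : f⁻¹ * (z p * z p') * f⁻¹⁻¹ = z j := by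
    have e1 : f⁻¹ * (z p * z p') * f⁻¹⁻¹ = (f⁻¹ * z p * f) * (f⁻¹ * z p' * f) := by group
    rw [e1, ← h2, ← mul_assoc, c.sqV (c.UV (hU p hp)), one_mul]
  by_cases hpp : p = p'
  · subst hpp
    rw [c.sqV (c.zV p)] at h3
    apply c.zn j
    rw [← h3]; group
  · exact no_one_two c.h.toCr hpp (c.zZ p) (c.zn p) (c.zZ p') (c.zn p') (c.zZ j) h3

omit [Finite G] c in
theorem prod_lem {y a b d : G} (hya : y * a = a * y) (hyb : y * b = b * y) (hyd : y * d = d * y) (hab : a * b = b * a)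
    (had : a * d = d * a) (hbd : b * d = d * b) (hy : y * y = 1) (ha : a * a = 1) (hb : b * b = 1) (hd : d * d = 1) :
    y * a * b * (y * d * b) * (y * d * a) = y := by
  have c1 : Commute y a := hya
  have c2 : Commute y b := hyb
  have c3 : Commute y d := hyd
  have c4 : Commute a b := hab
  have c5 : Commute a d := had
  have c6 : Commute b d := hbd
  have h1 : a * b * (y * d * b) = y * (a * d) := by
    have k : Commute (a * b) y := (c1.symm.mul_left c2.symm)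
    calc a * b * (y * d * b) = (a * b * y) * (d * b) := by group
      _ = y * (a * b) * (d * b) := by rw [k.eq]
      _ = y * a * (b * d) * b := by group
      _ = y * a * (d * b) * b := by rw [c6.eq]
      _ = y * (a * d) * (b * b) := by group
      _ = _ := by rw [hb, mul_one]
  have h2 : y * (a * d) * (y * d * a) = 1 := by
    have k : Commute (a * d) y := (c1.symm.mul_left c3.symm)
    calc y * (a * d) * (y * d * a) = y * ((a * d) * y) * (d * a) := by group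
      _ = y * (y * (a * d)) * (d * a) := by rw [k.eq]
      _ = (y * y) * a * (d * d) * a := by group
      _ = 1 := by rw [hy, hd, one_mul, mul_one, ha]
  calc y * a * b * (y * d * b) * (y * d * a) = y * (a * b * (y * d * b)) * (y * d * a) := by group
    _ = y * (y * (a * d) * (y * d * a)) := by rw [h1]; group
    _ = y := by rw [h2, mul_one]

/-- **(B)** three indices -/
theorem no_three {f : G} (hf : f ∈ F) (hU : ∀ p ∈ r, f⁻¹ * z p * f ∈ ⨆ j ∈ r, W j) {p j l m : ι} (hp : p ∈ r)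
    (hj : j ∈ r) (hl : l ∈ r) (hm : m ∈ r) (hjl : j ≠ l) (hjm : j ≠ m) (hlm : l ≠ m)
    (hmv : tv j * (f⁻¹ * z p * f) ≠ f⁻¹ * z p * f * tv j) : False := by
  have hml := c.mv_all hf hU hp hj hl hmv
  have hmm := c.mv_all hf hU hp hj hm hmv
  obtain ⟨o1, ho1, e1⟩ := c.tr j hj l hl
  obtain ⟨o2', ho2, e2⟩ := c.tr j hj m hm
  obtain ⟨o3, ho3, e3⟩ := c.tr l hl m hm
  obtain ⟨a1, ha1, -, h1⟩ := c.com_act ho1 hj e1 (hU p hp) hmv
  obtain ⟨a2, ha2, -, h2⟩ := c.com_act ho2 hj e2 (hU p hp) hmv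
  obtain ⟨a3, ha3, -, h3⟩ := c.com_act ho3 hl e3 (hU p hp) hml
  obtain ⟨p1, hp1, k1⟩ := c.yorb hf ha1 hp
  obtain ⟨p2, hp2, k2⟩ := c.yorb hf ha2 hp
  obtain ⟨p3, hp3, k3⟩ := c.yorb hf ha3 hp
  rw [h1 hml] at k1
  rw [h2 hmm] at k2
  rw [h3 hmm] at k3
  have hyV := c.UV (hU p hp)
  have key := prod_lem (c.cV hyV (c.zV l)) (c.cV hyV (c.zV j)) (c.cV hyV (c.zV m)) (c.cV (c.zV l) (c.zV j))
    (c.cV (c.zV l) (c.zV m)) (c.cV (c.zV j) (c.zV m)) (c.sqV hyV) (c.sqV (c.zV l)) (c.sqV (c.zV j)) (c.sqV (c.zV m))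
  rw [k1, k2, k3] at key
  have key2 : z p1 * z p2 * z p3 = z p := by
    have := congrArg (fun t => f * t * f⁻¹) key
    have e4 : f * (f⁻¹ * z p1 * f * (f⁻¹ * z p2 * f) * (f⁻¹ * z p3 * f)) * f⁻¹ = z p1 * z p2 * z p3 := by group
    have e5 : f * (f⁻¹ * z p * f) * f⁻¹ = z p := by group
    exact e4.symm.trans (this.trans e5)
  have ne : ∀ {a b q : ι}, a ≠ b → f⁻¹ * z p * f * z a * z b = f⁻¹ * z q * f → p ≠ q := by
    rintro a b q hab hq rfl
    have h4 : z a * z b = 1 := by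
      have h5 : f⁻¹ * z p * f * (z a * z b) = f⁻¹ * z p * f * 1 := by rw [mul_one, ← mul_assoc]; exact hq
      exact mul_left_cancel h5
    have h5 : z a ∈ C a := by
      rw [mul_eq_one_iff_eq_inv.1 h4]
      exact inv_mem (Z_C c.h.toCr hab (c.zZ b))
    exact not_mem_C c.h.toCr (c.zZ a) (c.zn a) h5
  have n1 := ne hjl.symm k1
  have n2 := ne hjm.symm k2
  have n3 := ne hlm.symm k3
  refine not_mem_C c.h.toCr (c.zZ p) (c.zn p) ?_
  rw [← key2]
  exact mul_mem (mul_mem (Z_C c.h.toCr n1 (c.zZ p1)) (Z_C c.h.toCr n2 (c.zZ p2))) (Z_C c.h.toCr n3 (c.zZ p3))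

/-- the component in `W i` of an element commuting with `tv i` lies in `Z i` -/
theorem comp_Z {i : ι} {w d : G} (hw : w ∈ W i) (hd : d ∈ C i) (ht : tv i * (w * d) = w * d * tv i) : w ∈ Z i := by
  by_contra hwZ
  have h1 := mv_act c.h.toCr (c.tvB i) (c.tvm i) (c.zZ i) (c.zn i) hw hwZ
  have h2 := c.h.AC i (tv i) (c.tvA i) d hd
  have h3 : tv i * (w * d) * (tv i)⁻¹ = w * z i * d := by
    calc tv i * (w * d) * (tv i)⁻¹ = tv i * w * (tv i)⁻¹ * (tv i * d) * (tv i)⁻¹ := by group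
      _ = w * z i * (d * tv i) * (tv i)⁻¹ := by rw [h1, h2]
      _ = _ := by group
  rw [ht, mul_inv_cancel_right] at h3
  have h4 : z i = 1 := by
    have h5 : w * (z i * d) = w * d := by rw [← mul_assoc, ← h3]
    have h6 := mul_left_cancel h5
    exact mul_eq_right.1 h6
  exact c.zn i h4

/-- **(D)** -/
theorem none {f : G} (hf : f ∈ F) {p : ι} (hp : p ∈ r) (hU : f⁻¹ * z p * f ∈ ⨆ j ∈ r, W j)
    (hn : ∀ j ∈ r, tv j * (f⁻¹ * z p * f) = f⁻¹ * z p * f * tv j) : f ∈ M := by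
  have hyV := c.UV hU
  have hyJ : f⁻¹ * z p * f ∈ ZJ := by
    refine c.h.mem_ZJ_of hyV fun i a ha => ?_
    by_cases hi : i ∈ r
    · obtain ⟨w, hw, d, hd, e⟩ := c.h.WC i _ hyV
      have h1 := hn i hi
      rw [e] at h1
      have h2 := c.comp_Z hw hd h1
      have h3 := c.h.AC i a ha d hd
      have h4 : a * w = w * a := by
        rw [(c.h.blk i).cZ a (c.h.AB i ha) w h2]
      have k : Commute a (w * d) := (show Commute a w from h4).mul_right h3
      rw [e]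
      exact k.eq
    · exact c.h.AC i a ha _ (c.UC hi hU)
  obtain ⟨j, hj, hjC⟩ := eq_single c.h.toCr (g := f⁻¹) (c.zZ p) (c.zn p) hyJ (by rw [inv_inv])
  have hjr : j ∈ r := by
    by_contra hjr
    exact hjC (c.UC hjr hU)
  have hy1 : f⁻¹ * z p * f ≠ 1 := fun h1 => hjC (by rw [h1]; exact one_mem _)
  have hyz := c.eqz hj hy1
  obtain ⟨o, ho, e⟩ := c.tr j hjr p hp
  have hoF : o ∈ F := o2_le F ho
  have h1 : o * f⁻¹ ∈ M := by
    refine c.mem_M hp (fun x hx => c.F_cent hx (mul_mem hoF (inv_mem hf))) ?_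
    have e1 : o * f⁻¹ * z p * (o * f⁻¹)⁻¹ = o * (f⁻¹ * z p * f) * o⁻¹ := by group
    rw [e1, hyz, c.gen e]
  have h2 := mul_mem (inv_mem h1) (c.TM (c.O_le ho))
  have e1 : (o * f⁻¹)⁻¹ * o = f := by group
  rwa [e1] at h2

/-- `t z_i ∈ C i` for `t ∈ Z_J`, `t ∉ C i` -/
theorem mul_z_mem {i : ι} {t : G} (ht : t ∈ ZJ) (hti : t ∉ C i) : t * z i ∈ C i := by
  obtain ⟨w, hw, d, hd, -, e⟩ := c.h.split i _ ht
  have hw1 : w ≠ 1 := by
    rintro rfl
    exact hti (by rw [e, one_mul]; exact hd)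
  have h1 := c.eqz hw hw1
  subst h1
  have h2 := c.cV (c.zV i) (c.h.CV i hd)
  rw [e]
  have e1 : z i * d * z i = d * (z i * z i) := by rw [h2]; group
  rw [e1, c.sqV (c.zV i), mul_one]
  exact hd

/-- an element of `W j` outside `Z j` is `L j`-conjugate to `z j` -/
theorem cov {j : ι} {w : G} (hw : w ∈ W j) (hw1 : w ≠ 1) : ∃ x ∈ L j, x * w * x⁻¹ = z j := by
  obtain ⟨x, hx, hwx⟩ := UniPlus.cover_two (nb c.h.toCr j) hw
  rw [mem_cj] at hwx
  refine ⟨x⁻¹, inv_mem hx, ?_⟩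
  rw [inv_inv]
  refine c.eqz hwx fun h1 => hw1 ?_
  have := congrArg (fun t => x * t * x⁻¹) h1
  simpa [mul_assoc] using this

/-- **(E)** two indices -/
theorem two {f : G} (hf : f ∈ F) {i j : ι} (hi : i ∈ r) (hj : j ∈ r) (hij : i ≠ j) (hall : ∀ k ∈ r, k = i ∨ k = j)
    (hU : f⁻¹ * z i * f ∈ ⨆ j ∈ r, W j) (hmv : tv j * (f⁻¹ * z i * f) ≠ f⁻¹ * z i * f * tv j) : f ∈ M := by
  -- decomposition of the elements of `U`
  have hUle : (⨆ j ∈ r, W j) ≤ W i ⊔ W j := iSup₂_le fun k hk => by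
    rcases hall k hk with rfl | rfl
    · exact le_sup_left
    · exact le_sup_right
  have dec : ∀ u ∈ ⨆ j ∈ r, W j, (∀ a ∈ A i, a * u = u * a) → ∃ s ∈ Z i, ∃ w ∈ W j, u = s * w := by
    intro u hu ha
    obtain ⟨s, hs, w, hw, e⟩ := mem_sup_comm (fun s hs w hw => c.cV (c.h.WV i hs) (c.h.WV j hw)) (hUle hu)
    refine ⟨s, c.comp_Z hs (c.h.WjC i j hij hw) ?_, w, hw, e⟩
    have := ha _ (c.tvA i)
    rwa [e] at this
  have LCi : ∀ l ∈ L i, l * z j * l⁻¹ = z j := fun l hl => by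
    rw [c.h.LC i l hl (z j) (c.h.Z_le j (c.zZ j)) (Z_C c.h.toCr hij (c.zZ j))]; group
  have LCj : ∀ l ∈ L j, l * z i * l⁻¹ = z i := fun l hl => by
    rw [c.h.LC j l hl (z i) (c.h.Z_le i (c.zZ i)) (Z_C c.h.toCr (Ne.symm hij) (c.zZ i))]; group
  have no12 : ∀ g : G, ∀ k, g * (z i * z j) * g⁻¹ ≠ z k := fun g k e =>
    no_one_two c.h.toCr hij (c.zZ i) (c.zn i) (c.zZ j) (c.zn j) (c.zZ k) e
  set y : G := f⁻¹ * z i * f with hy
  have hyV := c.UV hU
  -- Step 1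
  obtain ⟨l, hl, hlA⟩ := step c.h i hyV
  obtain ⟨s, hs, w, hw, e1⟩ := dec _ (nWr c.h hi hl hU) hlA
  have hwZ : w ∉ Z j := by
    intro hwZ
    apply hmv
    have h1 : ∀ a ∈ A j, a * (l * y * l⁻¹) = l * y * l⁻¹ * a := by
      intro a ha
      have haB := c.h.AB j ha
      have k1 : Commute a s := c.h.zB (c.h.Z_le i hs) haB
      have k2 : Commute a w := c.h.zB (c.h.Z_le j hwZ) haB
      rw [e1]
      exact (k1.mul_right k2).eq
    have h2 := keep c.h hij (inv_mem hl) (c.UV (nWr c.h hi hl hU)) h1 _ (c.tvA j)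
    have e2 : l⁻¹ * (l * y * l⁻¹) * l⁻¹⁻¹ = y := by group
    rwa [e2] at h2
  obtain ⟨x, hx, hxw⟩ := c.cov hw fun h1 => hwZ (by rw [h1]; exact one_mem _)
  have hs1 : s = 1 := by
    by_contra hs1
    have hsz := c.eqz hs hs1
    refine no12 (f * l⁻¹ * x⁻¹) i ?_
    have h1 : x * (l * y * l⁻¹) * x⁻¹ = z i * z j := by
      rw [e1, hsz]
      have e2 : x * (z i * w) * x⁻¹ = (x * z i * x⁻¹) * (x * w * x⁻¹) := by group
      rw [e2, LCj x hx, hxw]
    rw [← h1, hy]; group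
  rw [hs1, one_mul] at e1
  have hm1 : (x * l) * y * (x * l)⁻¹ = z j := by
    have e2 : (x * l) * y * (x * l)⁻¹ = x * (l * y * l⁻¹) * x⁻¹ := by group
    rw [e2, e1, hxw]
  -- Step 3
  have hzz : z i * z j ∈ ⨆ j ∈ r, W j := mul_mem (c.zU hi) (c.zU hj)
  have hu := nWr c.h hj hx (nWr c.h hi hl hzz)
  obtain ⟨l', hl', hlA'⟩ := step c.h i (c.UV hu)
  obtain ⟨s', hs', w', hw', e2⟩ := dec _ (nWr c.h hi hl' hu) hlA'
  set m : G := l' * (x * l) with hm
  have hmy : m * y * m⁻¹ = z j := by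
    have e3 : m * y * m⁻¹ = l' * ((x * l) * y * (x * l)⁻¹) * l'⁻¹ := by rw [hm]; group
    rw [e3, hm1, LCi l' hl']
  have hmz' : m * (z i * z j) * m⁻¹ = s' * w' := by
    rw [← e2, hm]; group
  have hmz : m * (z i * z j) * m⁻¹ = z i * z j := by
    by_cases hwZ' : w' ∈ Z j
    · by_cases hs1' : s' = 1
      · exfalso
        rw [hs1', one_mul] at hmz'
        have hw1 : w' ≠ 1 := by
          rintro rfl
          apply c.zn j
          have h4 : z i * z j = 1 := by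
            have := congrArg (fun t => m⁻¹ * t * m) hmz'
            simpa [mul_assoc] using this
          have h5 : z j ∈ C j := by
            rw [(mul_eq_one_iff_inv_eq.1 h4).symm]
            exact inv_mem (Z_C c.h.toCr (Ne.symm hij) (c.zZ i))
          exact absurd h5 (not_mem_C c.h.toCr (c.zZ j) (c.zn j))
        rw [c.eqz hwZ' hw1] at hmz'
        exact no12 m j hmz'
      · have hsz := c.eqz hs' hs1'
        by_cases hw1 : w' = 1
        · exfalso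
          rw [hw1, mul_one, hsz] at hmz'
          exact no12 m i hmz'
        · rw [hmz', hsz, c.eqz hwZ' hw1]
    · exfalso
      by_cases hs1' : s' = 1
      · rw [hs1', one_mul] at hmz'
        obtain ⟨x', hx', hxw'⟩ := c.cov hw' fun h1 => hwZ' (by rw [h1]; exact one_mem _)
        refine no12 (x' * m) j ?_
        have e3 : x' * m * (z i * z j) * (x' * m)⁻¹ = x' * (m * (z i * z j) * m⁻¹) * x'⁻¹ := by group
        rw [e3, hmz', hxw']
      · have hsz := c.eqz hs' hs1'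
        -- `y' = f⁻¹ z_j f = y z_i z_j`
        have hcent : f * (z i * z j) = z i * z j * f := by
          refine c.r_cent (mul_mem (c.h.Z_le i (c.zZ i)) (c.h.Z_le j (c.zZ j))) (fun k => ?_) hf
          have h5 : k ∈ {k | z i * z j ∉ C k} ↔ k ∈ ({i, j} : Set ι) := by
            rw [supp_two c.h.toCr hij (c.zZ i) (c.zn i) (c.zZ j) (c.zn j)]
          simp only [Set.mem_setOf_eq, Set.mem_insert_iff, Set.mem_singleton_iff] at h5
          constructor
          · intro h6 hk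
            exact h5.2 (hall k hk) h6
          · intro hk
            by_contra h6
            rcases h5.1 h6 with rfl | rfl
            · exact hk hi
            · exact hk hj
        have hy' : f⁻¹ * z j * f = y * (z i * z j) := by
          have h6 : z j = z i * (z i * z j) := by rw [← mul_assoc, c.sqV (c.zV i), one_mul]
          calc f⁻¹ * z j * f = f⁻¹ * (z i * (z i * z j)) * f := by rw [← h6]
            _ = f⁻¹ * z i * (z i * z j * f) := by group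
            _ = f⁻¹ * z i * (f * (z i * z j)) := by rw [hcent]
            _ = _ := by rw [hy]; group
        have h7 : m * (f⁻¹ * z j * f) * m⁻¹ = z i * (w' * z j) := by
          have e3 : m * (y * (z i * z j)) * m⁻¹ = (m * y * m⁻¹) * (m * (z i * z j) * m⁻¹) := by group
          rw [hy', e3, hmy, hmz', hsz]
          have k1 := c.cV (c.zV j) (mul_mem (c.zV i) (c.h.WV j hw'))
          rw [k1]; group
        have hwz : w' * z j ∉ Z j := fun h8 => hwZ' ((Subgroup.mul_mem_cancel_right _ (c.zZ j)).1 h8)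
        obtain ⟨x', hx', hxw'⟩ := c.cov (mul_mem hw' (Z_W c.h.toCr j (c.zZ j))) fun h1 => hwz (by rw [h1]; exact one_mem _)
        refine no12 (f * m⁻¹ * x'⁻¹) j ?_
        have h8 : x' * (m * (f⁻¹ * z j * f) * m⁻¹) * x'⁻¹ = z i * z j := by
          rw [h7]
          have e3 : x' * (z i * (w' * z j)) * x'⁻¹ = (x' * z i * x'⁻¹) * (x' * (w' * z j) * x'⁻¹) := by group
          rw [e3, LCj x' hx', hxw']
        rw [← h8]; group
  -- the end
  obtain ⟨o, ho, e3⟩ := c.tr j hj i hi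
  have hoF : o ∈ F := o2_le F ho
  have hmLL : m ∈ L i ⊔ L j := mul_mem (mem_sup_left hl') (mul_mem (mem_sup_right hx) (mem_sup_left hl))
  have hmM : m ∈ M := (sup_le (c.LM i) (c.LM j)) hmLL
  have hmT : ∀ t ∈ ZJ ⊓ centralizer (T : Set G), m * t = t * m := by
    rintro t ⟨ht, htT⟩
    have hot : o * t * o⁻¹ = t := by
      rw [mem_centralizer_iff.1 htT o (c.O_le ho)]; group
    have hiff := supp_cj c.h.toCr (c.ON ho) e3 ht
    rw [hot] at hiff
    have key : ∀ t ∈ ZJ, t ∈ C i → t ∈ C j → m * t = t * m := by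
      intro t ht hti htj
      have h5 : L i ⊔ L j ≤ centralizer ({t} : Set G) := by
        refine sup_le (fun l hl => ?_) fun l hl => ?_ <;> rw [mem_centralizer_singleton_iff]
        · exact c.h.LC i l hl t ht hti
        · exact c.h.LC j l hl t ht htj
      exact mem_centralizer_singleton_iff.1 (h5 hmLL)
    by_cases hti : t ∈ C i
    · exact key t ht hti (hiff.1 hti)
    · have htj : t ∉ C j := fun h5 => hti (hiff.2 h5)
      have ht' : t * (z i * z j) ∈ ZJ :=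
        mul_mem ht (mul_mem (c.h.Z_le i (c.zZ i)) (c.h.Z_le j (c.zZ j)))
      have k1 : m * (t * (z i * z j)) = t * (z i * z j) * m := by
        refine key _ ht' ?_ ?_
        · rw [← mul_assoc]
          exact mul_mem (c.mul_z_mem ht hti) (Z_C c.h.toCr hij (c.zZ j))
        · rw [c.cV (c.zV i) (c.zV j), ← mul_assoc]
          exact mul_mem (c.mul_z_mem ht htj) (Z_C c.h.toCr (Ne.symm hij) (c.zZ i))
      have k2 : m * (z i * z j) = z i * z j * m := mul_inv_eq_iff_eq_mul.1 hmz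
      have k3 : Commute m (t * (z i * z j) * (z i * z j)⁻¹) :=
        (show Commute m _ from k1).mul_right (show Commute m _ from k2).inv_right
      rw [mul_inv_cancel_right] at k3
      exact k3.eq
  have hg : o * m * f⁻¹ ∈ M := by
    refine c.mem_M hi (fun t ht => ?_) ?_
    · have k1 : Commute o t := c.F_cent ht hoF
      have k2 : Commute m t := hmT t ht
      have k3 : Commute f⁻¹ t := c.F_cent ht (inv_mem hf)
      exact ((k1.mul_left k2).mul_left k3).eq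
    · have e4 : o * m * f⁻¹ * z i * (o * m * f⁻¹)⁻¹ = o * (m * y * m⁻¹) * o⁻¹ := by rw [hy]; group
      rw [e4, hmy, c.gen e3]
  have h5 := mul_mem (inv_mem hg) (mul_mem (c.TM (c.O_le ho)) hmM)
  have e4 : (o * m * f⁻¹)⁻¹ * (o * m) = f := by group
  rwa [e4] at h5

/-- (TI) for `z_i`. -/
theorem ti_z {f : G} (hf : f ∈ F) {i : ι} (hi : i ∈ r) (hU : f⁻¹ * z i * f ∈ ⨆ j ∈ r, W j) : f ∈ M := by
  by_cases hn : ∀ j ∈ r, tv j * (f⁻¹ * z i * f) = f⁻¹ * z i * f * tv j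
  · exact c.none hf hi hU hn
  push Not at hn
  obtain ⟨j₀, hj₀, hmv⟩ := hn
  have hUp : ∀ p ∈ r, f⁻¹ * z p * f ∈ ⨆ j ∈ r, W j := fun p hp => c.yU hf hi hU hp
  obtain ⟨j, hj, hji⟩ := c.nt i hi
  by_cases h3 : ∃ m ∈ r, m ≠ i ∧ m ≠ j
  · obtain ⟨m, hm, hmi, hmj⟩ := h3
    exact (c.no_three hf hUp hi hi hj hm hji.symm hmi.symm hmj.symm (c.mv_all hf hUp hi hj₀ hi hmv)).elim
  · push Not at h3
    refine c.two hf hi hj hji.symm (fun k hk => ?_) hU (c.mv_all hf hUp hi hj₀ hj hmv)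
    by_contra hcon
    push Not at hcon
    exact hcon.2 (h3 k hk hcon.1)

/-- **(TI)** -/
theorem ti {f : G} (hf : f ∈ F) {i : ι} (hi : i ∈ r) {x : G} (hx : x ∈ W i) (hx1 : x ≠ 1)
    (hxf : f⁻¹ * x * f ∈ ⨆ j ∈ r, W j) : f ∈ M := by
  by_cases hxZ : x ∈ Z i
  · rw [c.eqz hxZ hx1] at hxf
    exact c.ti_z hf hi hxf
  refine c.ti_z hf hi ?_
  -- all elements `o x o⁻¹` have their conjugate in `U`
  have horb : ∀ o ∈ o2 F, f⁻¹ * (o * x * o⁻¹) * f ∈ ⨆ j ∈ r, W j := by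
    intro o ho
    have h1 := c.nU (c.OF' ho hf) hxf
    have e1 : f⁻¹ * o * f * (f⁻¹ * x * f) * (f⁻¹ * o * f)⁻¹ = f⁻¹ * (o * x * o⁻¹) * f := by group
    rwa [e1] at h1
  obtain ⟨j, hj, hji⟩ := c.nt i hi
  obtain ⟨o, ho, e⟩ := c.tr i hi j hj
  have hW := W_cj c.h.toCr (c.ON ho) e
  set x' : G := o * x * o⁻¹ with hx'
  have hxj : x' ∈ W j := by rw [← hW]; exact ⟨x, hx, rfl⟩
  have htx : tv i * x' = x' * tv i := c.h.AC i _ (c.tvA i) _ (c.h.WjC i j hji.symm hxj)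
  have hF : tv i ∈ F := c.TF (c.hp.BT (c.tvB i))
  have h1 := mv_act c.h.toCr (c.tvB i) (c.tvm i) (c.zZ i) (c.zn i) hx hxZ
  set o' : G := (tv i * o * (tv i)⁻¹)⁻¹ * o with ho'
  have hoO : o' ∈ o2 F := mul_mem (inv_mem (c.OF ho hF)) ho
  have h2 : o' * x * o'⁻¹ = x * z i := by
    have h3 : (tv i * o * (tv i)⁻¹) * (tv i * x * (tv i)⁻¹) * (tv i * o * (tv i)⁻¹)⁻¹ = x' := by
      have e1 : (tv i * o * (tv i)⁻¹) * (tv i * x * (tv i)⁻¹) * (tv i * o * (tv i)⁻¹)⁻¹ =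
        tv i * (o * x * o⁻¹) * (tv i)⁻¹ := by group
      rw [e1, ← hx', htx]; group
    rw [h1] at h3
    have e1 : o' * x * o'⁻¹ = (tv i * o * (tv i)⁻¹)⁻¹ * (o * x * o⁻¹) * (tv i * o * (tv i)⁻¹) := by
      rw [ho']; group
    rw [e1, ← hx', ← h3]; group
  have h3 := horb _ hoO
  rw [h2] at h3
  have h4 := mul_mem (inv_mem hxf) h3
  have e1 : (f⁻¹ * x * f)⁻¹ * (f⁻¹ * (x * z i) * f) = f⁻¹ * z i * f := by group
  rwa [e1] at h4

end Ctx


end CrA

end Cfsg.Agent.Omega.OM.SwapV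

end

section


/-!
# THEOREM SW over an abstract frame, inside `C_G(c)`, `c ∈ Z_J` of full support

The minimal parabolics which move `Ω₁Z(T)` are needed only inside `C_G(c)` (`BMH K B M (C_G(c))`).

* `CrA.exists_full`, `CrA.full_mem` : an element `c ∈ Ω₁Z(S)` of full support;
* `CrA.exists_maxZ` : a pair with `|C_ZJ(T)|` maximal, `C_G(C_ZJ(T) z_j) ≤ M` for the moved indices `j`;
* `CrA.le_of_char2Z` : **THEOREM SW**, inside `C_G(c)`; `CrA.cz_le` : `C_G(Ω₁Z(S)) ≤ M`;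
* `CrA.noOmZ` : (Om) is impossible.
-/

set_option autoImplicit false
set_option linter.unusedSectionVars false

namespace Cfsg.Agent.Omega.OM.SwapV

open Subgroup Cfsg Cfsg.Agent.ZN.ChoiceBase Cfsg.Agent.ZN.ChoiceSit
open Cfsg.Agent.ZN (jj zj bau zc zl o2)
open Cfsg.Agent.MinSimple.MinParabolic (IsMinPar)
open Cfsg.Agent.Omega.OM.LevD (LB K0 Fam)
open Cfsg.Agent.Omega.OM.LevB (FBlk)
open Cfsg.Agent.Omega.OM.Swap.Fam (Fm SitF)
open Cfsg.Agent.Omega.OM.Swap (char2_cent)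
open Cfsg.Agent.Omega.OM.SwapL (cj_mul_eq cj_inv_eq Phi)

universe u

variable {G : Type u} [Group G] [Finite G]

namespace CrA

open Cr

variable {ι : Type} [Finite ι] {S : Sylow 2 G} {K B V ZJ : Subgroup G} {L W Z C A : ι → Subgroup G}

/-- an element of full support -/
theorem exists_full (h : CrA S K B V ZJ L W Z C A) : ∃ c ∈ ZJ, ∀ i, c ∉ C i := by
  obtain ⟨c, hc, hs⟩ := exists_supp h.toCr Set.univ
  exact ⟨c, hc, fun i hi => (hs i).1 hi (Set.mem_univ i)⟩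

/-- it lies in `Ω₁Z(S)` -/
theorem full_mem (h : CrA S K B V ZJ L W Z C A) {c : G} (hc : c ∈ ZJ) (hcf : ∀ i, c ∉ C i) :
    c ∈ zc (S : Subgroup G) :=
  mem_zc.2 ⟨h.lb.BS (h.lb.ZB hc), h.lb.sq c hc, fun _ hs =>
    full_cent h.toCr hc hcf S.isPGroup' h.lb.BS hs⟩

/-- A pair with `|C_ZJ(T)|` maximal; `C_G(C_ZJ(T) z_j) ≤ M` for `j ∉ Phi(T)`. -/
theorem exists_maxZ (h : CrA S K B V ZJ L W Z C A) {M H : Subgroup G} {c : G} (hc : c ∈ ZJ)
    (hcf : ∀ i, c ∉ C i) (hBM : BMH K B M (centralizer ({c} : Set G)))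
    (hD : centralizer (ZJ : Set G) ≤ M) (hN : normalizer (B : Set G) ≤ M)
    (hB : B ≤ H) (hH : H ≤ centralizer ({c} : Set G))
    (hch : H ⊓ centralizer (o2 H : Set G) ≤ o2 H) (hM : ¬ H ≤ M) :
    ∃ T F : Subgroup G, Pair K B V ZJ M T F ∧ ∀ j, j ∉ Phi Z T →
      centralizer ((ZJ ⊓ centralizer (T : Set G) ⊔ Z j : Subgroup G) : Set G) ≤ M := by
  classical
  have hS2 : IsPGroup 2 ZJ := h.lb.Bp.to_le h.lb.ZB
  have hBMH : ∀ H' : Subgroup G, H' ≤ centralizer ({c} : Set G) → BMH K B M H' := fun H' hH' T Y hT hB' hY hYH =>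
    hBM T Y hT hB' hY (hYH.trans hH')
  -- choose
  let s : Set ℕ := {m | ∃ T F : Subgroup G, Pair K B V ZJ M T F ∧
    Nat.card (ZJ ⊓ centralizer (T : Set G) : Subgroup G) = m}
  have hs1 : s.Nonempty := by
    obtain ⟨T, F, hp, -⟩ := exists_pairH h.toCr (hBMH H hH) hD hN hB hch hM
    exact ⟨_, T, F, hp, rfl⟩
  have hs2 : s.Finite := by
    refine (Set.finite_Iic (Nat.card ZJ)).subset ?_
    rintro m ⟨T, F, -, rfl⟩
    rw [Set.mem_Iic]
    exact Nat.card_mono (Set.toFinite _) (inf_le_left : ZJ ⊓ centralizer (T : Set G) ≤ _)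
  obtain ⟨m, hm⟩ := hs2.exists_maximal hs1
  obtain ⟨T, F, hp, hcard⟩ := hm.prop
  refine ⟨T, F, hp, fun j hj => ?_⟩
  by_contra hcon
  set X : Subgroup G := ZJ ⊓ centralizer (T : Set G) ⊔ Z j with hX
  have hXJ : X ≤ ZJ := sup_le inf_le_left (h.Z_le j)
  have hX1 : X ≠ ⊥ := by
    intro e
    obtain ⟨z, hz, hz1⟩ := Z_ne h.toCr j
    have h1 : z ∈ X := mem_sup_right hz
    rw [e, mem_bot] at h1
    exact hz1 h1
  have hcX : c ∈ X := by
    refine mem_sup_left (mem_inf.2 ⟨hc, mem_centralizer_iff.2 fun t ht => ?_⟩)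
    exact full_cent h.toCr hc hcf hp.syl.2.1 hp.BT ht
  have hXc : centralizer (X : Set G) ≤ centralizer ({c} : Set G) :=
    centralizer_le (Set.singleton_subset_iff.2 hcX)
  have hBX : B ≤ centralizer (X : Set G) :=
    h.lb.Bc.trans (centralizer_le (by exact_mod_cast hXJ))
  obtain ⟨T', F', hp', hle⟩ := exists_pairH h.toCr (hBMH _ hXc) hD hN hBX
    (char2_cent h.char2 (hS2.to_le hXJ) hX1) hcon
  have hsub : X ≤ ZJ ⊓ centralizer (T' : Set G) :=
    le_inf hXJ (le_centralizer_iff.1 (hp'.syl.1.trans hle))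
  have hlt : ZJ ⊓ centralizer (T : Set G) < X := by
    refine lt_of_le_of_ne le_sup_left fun e => hj fun t ht => ?_
    refine cj_eq_of_mem_normalizer (centralizer_le_normalizer _ ?_)
    have h1 : Z j ≤ centralizer (T : Set G) := by
      have h2 : Z j ≤ ZJ ⊓ centralizer (T : Set G) := by
        rw [e]; exact le_sup_right
      exact h2.trans inf_le_right
    exact le_centralizer_iff.1 h1 ht
  have h2 : m < Nat.card (ZJ ⊓ centralizer (T' : Set G) : Subgroup G) := by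
    rw [← hcard]
    refine lt_of_lt_of_le (lt_of_not_ge fun hge => hlt.ne (Subgroup.eq_of_le_of_card_ge hlt.le hge))
      (Nat.card_mono (Set.toFinite _) (hsub : (X : Set G) ⊆ _))
  exact absurd (hm.le_of_ge ⟨T', F', hp', rfl⟩ h2.le) (not_le.2 h2)

/-- **STEP 0.** -/
theorem exists_sitZ (h : CrA S K B V ZJ L W Z C A) {M H : Subgroup G} {c : G} (hc : c ∈ ZJ)
    (hcf : ∀ i, c ∉ C i) (hBM : BMH K B M (centralizer ({c} : Set G))) (hLM : ∀ i, L i ≤ M)
    (hD : centralizer (ZJ : Set G) ≤ M) (hN : normalizer (B : Set G) ≤ M)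
    (hB : B ≤ H) (hH : H ≤ centralizer ({c} : Set G))
    (hch : H ⊓ centralizer (o2 H : Set G) ≤ o2 H) (hM : ¬ H ≤ M) :
    ∃ (T F F₀ : Subgroup G) (𝓐 : Set (Subgroup G)) (κ : Type) (V' : κ → Subgroup G) (z : κ → G),
      SitF F T F₀ 𝓐 V' z := by
  classical
  obtain ⟨T, F, hp, hcen⟩ := exists_maxZ h hc hcf hBM hD hN hB hH hch hM
  obtain ⟨r, hr⟩ := exists_orb h.toCr hp hD
  choose z hz hz1 using Z_ne h.toCr
  choose tv htvA htvm using exists_tv h
  obtain ⟨i₀, hi₀, j₀, hj₀r, hne₀⟩ := hr.two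
  have hctx : Ctx S K B V ZJ L W Z C A M T F r z tv :=
    { h := h
      hp := hp
      LM := hLM
      NM := hN
      cen := fun i hi => hcen i (hr.rPhi i hi)
      zZ := hz
      zn := hz1
      tvA := htvA
      tvm := htvm
      tr := hr.tr
      inv := hr.inv
      nt := fun i _ => by
        by_cases hi : i = i₀
        · exact ⟨j₀, hj₀r, fun e => hne₀ (by rw [← hi, e])⟩
        · exact ⟨i₀, hi₀, fun e => hi e.symm⟩ }
  refine sit_of h.toCr hp hD hN hr fun i hi x hx hx1 f hf hxf => ?_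
  rw [mem_cj] at hxf
  exact hctx.ti hf hi hx hx1 hxf

/-- **THEOREM SW** over an abstract frame, inside `C_G(c)`. -/
theorem le_of_char2Z (h : CrA S K B V ZJ L W Z C A) {M H : Subgroup G} {c : G}
    (hc : c ∈ ZJ) (hcf : ∀ i, c ∉ C i) (hBM : BMH K B M (centralizer ({c} : Set G)))
    (hLM : ∀ i, L i ≤ M) (hD : centralizer (ZJ : Set G) ≤ M) (hN : normalizer (B : Set G) ≤ M)
    (hB : B ≤ H) (hH : H ≤ centralizer ({c} : Set G))
    (hch : H ⊓ centralizer (o2 H : Set G) ≤ o2 H) : H ≤ M := by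
  by_contra hM
  obtain ⟨T, F, F₀, 𝓐, κ, V', z, hS⟩ := exists_sitZ h hc hcf hBM hLM hD hN hB hH hch hM
  exact hS.false

/-- `C_G(Ω₁Z(S)) ≤ M` -/
theorem cz_le (h : CrA S K B V ZJ L W Z C A) {M : Subgroup G} {c : G}
    (hc : c ∈ ZJ) (hcf : ∀ i, c ∉ C i) (hBM : BMH K B M (centralizer ({c} : Set G)))
    (hLM : ∀ i, L i ≤ M) (hD : centralizer (ZJ : Set G) ≤ M) (hN : normalizer (B : Set G) ≤ M)
    (hS1 : (S : Subgroup G) ≠ ⊥) : centralizer (zc (S : Subgroup G) : Set G) ≤ M := by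
  have h1 := MinPar.isLoc_centralizer_zc S hS1
  exact le_of_char2Z h hc hcf hBM hLM hD hN (h.lb.BS.trans h1.le)
    (centralizer_le (Set.singleton_subset_iff.2 (full_mem h hc hcf))) (h1.char2 S h.char2)

/-- **(Om) is impossible**: `K0 = ⟨C_G(Z_J), blocks⟩` normalises no 2-group `R ≠ 1`, if no 2-group `≠ 1` is normalised by
`C_G(Ω₁Z(S))` and all members of `Pr` (parabolics over `S` which move `Ω₁Z(S)`). -/
theorem noOmZ (h : CrA S K B V ZJ L W Z C A) (hF : Fam B ZJ (FBlk B))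
    (hLM : ∀ i, L i ≤ K0 ZJ (FBlk B)) {c : G} (hc : c ∈ ZJ) (hcf : ∀ i, c ∉ C i)
    (hBM : ∀ M : Subgroup G, K0 ZJ (FBlk B) ≤ M → normalizer (B : Set G) ≤ M → o2 M ≠ ⊥ →
      BMH K B M (centralizer ({c} : Set G)))
    {Pr : Subgroup G → Prop}
    (hPr : ∀ P, Pr P → K ≤ o2 P ∨ P ≤ K0 ZJ (FBlk B) ⊔ (S : Subgroup G))
    (hnon : ∀ R : Subgroup G, IsPGroup 2 R → (∀ P, Pr P → P ≤ normalizer (R : Set G)) →
      centralizer (zc (S : Subgroup G) : Set G) ≤ normalizer (R : Set G) → R = ⊥) :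
    ∀ R : Subgroup G, IsPGroup 2 R → K0 ZJ (FBlk B) ≤ normalizer (R : Set G) → R = ⊥ := by
  by_contra hcon
  push Not at hcon
  obtain ⟨R, hR, hRn, hR1⟩ := hcon
  obtain ⟨ho, hoB, hle⟩ := hF.dich h.lb hR hR1 hRn
  set O : Subgroup G := o2 (K0 ZJ (FBlk B)) with hO
  set M : Subgroup G := normalizer (O : Set G) with hM
  have hK : K0 ZJ (FBlk B) ≤ M := le_sup_left.trans hle
  have hN : normalizer (B : Set G) ≤ M := le_sup_right.trans hle
  have hSM : (S : Subgroup G) ≤ M := (h.lb.two_le S.isPGroup' h.lb.BS).trans hN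
  have hoM : o2 M ≠ ⊥ := by
    intro e
    apply ho
    have h1 : O ≤ o2 M := le_o2 (isPGroup_o2 _) le_normalizer le_rfl
    rw [e] at h1
    exact le_bot_iff.1 h1
  have hD : centralizer (ZJ : Set G) ≤ M := LevD.cent_le_K0.trans hK
  have hZM : normalizer (ZJ : Set G) ≤ M := h.lb.norm_zj_le.trans (sup_le hD hN)
  have hS1 : (S : Subgroup G) ≠ ⊥ := fun e => ho (by
    have h1 := hoB.trans h.lb.BS
    rw [e] at h1
    exact le_bot_iff.1 h1)
  have h2 := cz_le h hc hcf (hBM M hK hN hoM) (fun i => (hLM i).trans hK) hD hN hS1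
  refine ho (hnon _ (isPGroup_o2 _) (fun P hP => ?_) h2)
  rcases hPr P hP with hKP | h3
  · exact ((le_normalizer_o2 P).trans (h.lb.nrm _ (isPGroup_o2 P) hKP)).trans hZM
  · exact h3.trans (sup_le hK hSM)

end CrA

end Cfsg.Agent.Omega.OM.SwapV

end

section


/-!
# THEOREM SW over an abstract `V` at the levels `n ≥ 0`

* `LnV S V Q n L W Z C A` : `FrL (BL S n) Q V (Ω₁Z(lev S n)) (ZL S n) L W Z C A 2`, `G` of characteristic 2 type,
  `V ≤ O₂(C_G(Ω₁Z(S)))`, and `V`, `V^f` commute if `V^f ≤ T`, `V ≤ T^f` for a 2-group `T ≥ B`;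
* `LnV.crA` : the abstract frame `CrA`;
* `noff_of_nff`, `noff_of_sup` : the last field from "mutually normalising conjugates commute", for `V` itself, or for
  `S`-invariant subgroups `U k` with `V = ⟨U k⟩` (box R: the `V_P`).
-/

set_option autoImplicit false
set_option linter.unusedSectionVars false

namespace Cfsg.Agent.Omega.OM.SwapV

open Subgroup Cfsg Cfsg.Agent.ZN.ChoiceBase Cfsg.Agent.ZN.ChoiceSit
open Cfsg.Agent.ZN (jj zj bau zc zl o2)
open Cfsg.Agent.MinSimple.MinParabolic (IsMinPar)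
open Cfsg.Agent.Omega.NO3S.Level (lev Lev lev_isLev BO nxt)
open Cfsg.Agent.Omega.OM.LevD (LB)
open Cfsg.Agent.Omega.OM.WeakCl (WC)
open Cfsg.Agent.Omega.OM.Lev.Uni (FrL)
open Cfsg.Agent.Omega.OM.Swap.Fam (Fm BF fm_AA fm_best)
open Cfsg.Agent.Omega.OM.SwapL (BL ZL lb wc norm_lev zc_elab)

universe u

variable {G : Type u} [Group G] [Finite G]

/-! ### The no-FF field -/

/-- a 2-group over `B` lies in a conjugate of `S` under `N_G(B)` -/
theorem exists_cj_S {S : Sylow 2 G} {B : Subgroup G} (hwc : WC B) (hBS : B ≤ (S : Subgroup G)) {T : Subgroup G}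
    (hT : IsPGroup 2 T) (hB : B ≤ T) : ∃ g ∈ normalizer (B : Set G), T ≤ cj g (S : Subgroup G) := by
  obtain ⟨S', hS'⟩ := hT.exists_le_sylow
  obtain ⟨g, hg⟩ := MulAction.exists_smul_eq G S S'
  have hg2 : (S' : Subgroup G) = cj g (S : Subgroup G) := by
    rw [← hg, Sylow.coe_subgroup_smul]
    rfl
  have h1 : cj g⁻¹ B ≤ (S : Subgroup G) := by
    have := cj_mono g⁻¹ ((hB.trans hS').trans hg2.le)
    rwa [cj_inv_cj] at this
  have h2 := hwc _ S.isPGroup' hBS _ h1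
  have h3 := inv_mem (mem_normalizer_iff_cj.2 h2)
  rw [inv_inv] at h3
  exact ⟨g, h3, hS'.trans hg2.le⟩

/-- from `V` itself -/
theorem noff_of_nff {B V : Subgroup G} (htn : ∀ T : Subgroup G, IsPGroup 2 T → B ≤ T → T ≤ normalizer (V : Set G))
    (nff : ∀ g : G, V ≤ normalizer ((cj g V : Subgroup G) : Set G) → cj g V ≤ normalizer (V : Set G) →
      ∀ x ∈ V, ∀ y ∈ cj g V, x * y = y * x) :
    ∀ T : Subgroup G, IsPGroup 2 T → B ≤ T → ∀ f : G, cj f V ≤ T → V ≤ cj f T →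
      ∀ x ∈ V, ∀ y ∈ V, x * (f * y * f⁻¹) = f * y * f⁻¹ * x := by
  intro T hT hB f h1 h2 x hx y hy
  refine nff f ?_ (h1.trans (htn T hT hB)) x hx _ ⟨y, hy, rfl⟩
  have h3 := cj_mono f (htn T hT hB)
  rw [cj_normalizer] at h3
  exact h2.trans h3

/-- from `S`-invariant subgroups `U k`, `V = ⟨U k⟩` -/
theorem noff_of_sup {S : Sylow 2 G} {B V : Subgroup G} (hwc : WC B) (hBS : B ≤ (S : Subgroup G))
    (hN : ∀ g ∈ normalizer (B : Set G), cj g V = V) {κ : Sort*} {U : κ → Subgroup G} (hV : V = ⨆ k, U k)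
    (hS : ∀ k, (S : Subgroup G) ≤ normalizer (U k : Set G))
    (nff : ∀ k l, ∀ g : G, U k ≤ normalizer ((cj g (U l) : Subgroup G) : Set G) →
      cj g (U l) ≤ normalizer (U k : Set G) → ∀ x ∈ U k, ∀ y ∈ cj g (U l), x * y = y * x) :
    ∀ T : Subgroup G, IsPGroup 2 T → B ≤ T → ∀ f : G, cj f V ≤ T → V ≤ cj f T →
      ∀ x ∈ V, ∀ y ∈ V, x * (f * y * f⁻¹) = f * y * f⁻¹ * x := by
  intro T hT hB f h1 h2 x hx y hy
  obtain ⟨g, hg, hTg⟩ := exists_cj_S hwc hBS hT hB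
  have hgV := hN g hg
  have e1 : V = ⨆ k, cj g (U k) := by
    have h3 : cj g V = ⨆ k, cj g (U k) := by
      rw [hV]
      exact Subgroup.map_iSup _ _
    rw [← h3, hgV]
  have e2 : cj f V = ⨆ k, cj f (cj g (U k)) := by
    have h3 : cj f (⨆ k, cj g (U k)) = ⨆ k, cj f (cj g (U k)) := Subgroup.map_iSup _ _
    rw [← h3, ← e1]
  have key : V ≤ centralizer ((cj f V : Subgroup G) : Set G) := by
    have h4 : (⨆ k, cj g (U k)) ≤ centralizer ((cj f V : Subgroup G) : Set G) := by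
      refine iSup_le fun k => ?_
      rw [le_centralizer_iff, e2]
      refine iSup_le fun l => ?_
      -- `U k ^ g` and `U l ^ (f g)`
      have hk : cj g (U k) ≤ V := e1 ▸ le_iSup (fun k => cj g (U k)) k
      have hl : cj f (cj g (U l)) ≤ cj f V := cj_mono f (e1 ▸ le_iSup (fun k => cj g (U k)) l)
      have n1 : cj f (cj g (U l)) ≤ normalizer ((cj g (U k) : Subgroup G) : Set G) := by
        have h5 := cj_mono g (hS k)
        rw [cj_normalizer] at h5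
        exact ((hl.trans h1).trans hTg).trans h5
      have n2 : cj g (U k) ≤ normalizer ((cj f (cj g (U l)) : Subgroup G) : Set G) := by
        have h6 := cj_mono g (hS l)
        rw [cj_normalizer] at h6
        have h5 := cj_mono f (hTg.trans h6)
        rw [cj_normalizer] at h5
        exact (hk.trans h2).trans h5
      intro y hy
      rw [mem_centralizer_iff]
      intro x hx
      have n1' : cj (g⁻¹ * f * g) (U l) ≤ normalizer (U k : Set G) := by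
        have h5 := cj_mono g⁻¹ n1
        rw [cj_normalizer, cj_inv_cj, cj_cj, cj_cj] at h5
        exact h5
      have n2' : U k ≤ normalizer ((cj (g⁻¹ * f * g) (U l) : Subgroup G) : Set G) := by
        have h5 := cj_mono g⁻¹ n2
        rw [cj_normalizer, cj_inv_cj, cj_cj, cj_cj] at h5
        exact h5
      have h6 := nff k l _ n2' n1' (g⁻¹ * x * g) (mem_cj.1 hx) (g⁻¹ * y * g) (by
        rw [← cj_cj, ← cj_cj, mem_cj]
        have e : g⁻¹⁻¹ * (g⁻¹ * y * g) * g⁻¹ = y := by group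
        rwa [e])
      have h7 := congrArg (fun t => g * t * g⁻¹) h6
      have e3 : g * (g⁻¹ * x * g * (g⁻¹ * y * g)) * g⁻¹ = x * y := by group
      have e4 : g * (g⁻¹ * y * g * (g⁻¹ * x * g)) * g⁻¹ = y * x := by group
      exact (e3.symm.trans h7).trans e4
    rwa [← e1] at h4
  exact (mem_centralizer_iff.1 (key hx) _ ⟨y, hy, rfl⟩).symm

/-! ### The ground frame -/

/-- The ground frame at stage `n`, abstract `V`. -/
structure LnV {ι : Type} (S : Sylow 2 G) (V Q : Subgroup G) (n : ℕ) (L W Z C A : ι → Subgroup G) : Prop where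
  fr : FrL (BL (S : Subgroup G) n) Q V (zc (lev (S : Subgroup G) n)) (ZL (S : Subgroup G) n) L W Z C A 2
  char2 : IsCharacteristicTwoType G
  low : V ≤ o2 (centralizer (zc (S : Subgroup G) : Set G))
  noff : ∀ T : Subgroup G, IsPGroup 2 T → BL (S : Subgroup G) n ≤ T → ∀ f : G, cj f V ≤ T → V ≤ cj f T →
    ∀ x ∈ V, ∀ y ∈ V, x * (f * y * f⁻¹) = f * y * f⁻¹ * x

namespace LnV

variable {ι : Type} [Finite ι] {S : Sylow 2 G} {V Q : Subgroup G} {n : ℕ} {L W Z C A : ι → Subgroup G}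

/-- **(U1)** -/
theorem norm (h : LnV S V Q n L W Z C A) {g : G} (hg : g ∈ normalizer (BL (S : Subgroup G) n : Set G)) :
    cj g V = V ∧ ∀ i, ∃ j, cj g (Z i) = Z j ∧ cj g (W i) ≤ W j ⊔ ZL (S : Subgroup G) n :=
  h.fr.norm_of hg (NO3S.Level.normalizer_le_zc _ (norm_lev S (by omega) hg))

/-- `lev S n` centralises `V` -/
theorem comm_V (h : LnV S V Q n L W Z C A) {a v : G} (ha : a ∈ lev (S : Subgroup G) n) (hv : v ∈ V) :
    a * v = v * a := (mem_zc.1 (h.fr.VX hv)).2.2 a ha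

theorem V_le_X (h : LnV S V Q n L W Z C A) {s : ℕ} (hs : s ≤ n) : V ≤ zc (lev (S : Subgroup G) s) :=
  h.fr.VX.trans ((lev_isLev (S : Subgroup G) s).zc_le_zc (NO3S.Level.lev_mono _ hs)
    (NO3S.Level.lev_le (S : Subgroup G) n))

/-- the family of a pair -/
theorem exists_fam (h : LnV S V Q n L W Z C A) {M T F : Subgroup G}
    (hp : Pair (lev (S : Subgroup G) (n + 1)) (BL (S : Subgroup G) n) V (ZL (S : Subgroup G) n) M T F)
    (hD : centralizer (ZL (S : Subgroup G) n : Set G) ≤ M)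
    (hZM : normalizer (ZL (S : Subgroup G) n : Set G) ≤ M) (hTM : T ≤ M) :
    ∃ 𝓐 : Set (Subgroup G), PF (BL (S : Subgroup G) n) V T F W 𝓐 := by
  classical
  have hT2 := hp.syl.2.1
  have hKT : lev (S : Subgroup G) (n + 1) ≤ T := (lb S n).KB.trans hp.BT
  have h0T : jj (S : Subgroup G) ≤ T :=
    (NO3S.Level.lev_mono (S : Subgroup G) (Nat.zero_le (n + 1))).trans hKT
  have hnK : ¬ lev (S : Subgroup G) (n + 1) ≤ o2 F := fun hle =>
    hp.nM ((le_normalizer_o2 F).trans (((lb S n).nrm _ (isPGroup_o2 F) hle).trans hZM))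
  have hmp : IsMinPar T F := by
    refine ⟨hp.syl.1, fun hle => ?_, F ⊓ M, lt_of_le_of_ne inf_le_left fun e => hp.nM (inf_eq_left.1 e),
      fun R hTR hRF => le_inf hRF.le (hp.min R hTR hRF)⟩
    apply hnK
    exact ((lb S n).KB.trans hp.BT).trans (le_o2 hp.syl.2.1 hp.syl.1 hle)
  have hstg : ¬ jj (S : Subgroup G) ≤ o2 F ∨ ∃ s, s ≤ n ∧ lev (S : Subgroup G) s ≤ o2 F ∧
      ¬ lev (S : Subgroup G) (s + 1) ≤ o2 F := by
    by_cases h0 : jj (S : Subgroup G) ≤ o2 F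
    · right
      have hex : ∃ m, ¬ lev (S : Subgroup G) m ≤ o2 F := ⟨n + 1, hnK⟩
      obtain ⟨m, hm, hmin⟩ : ∃ m, ¬ lev (S : Subgroup G) m ≤ o2 F ∧ ∀ k, k < m → lev (S : Subgroup G) k ≤ o2 F :=
        ⟨Nat.find hex, Nat.find_spec hex, fun k hk => by
          by_contra hcon
          exact Nat.find_min hex hk hcon⟩
      have hmn : m ≤ n + 1 := by
        by_contra hcon
        exact hnK (hmin (n + 1) (by omega))
      obtain ⟨s, rfl⟩ : ∃ s, m = s + 1 := by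
        refine ⟨m - 1, ?_⟩
        have : m ≠ 0 := by
          rintro rfl
          exact hm h0
        omega
      exact ⟨s, by omega, hmin s (by omega), hm⟩
    · exact Or.inl h0
  rcases hstg with hJ | ⟨s, hs, hlow, hnle⟩
  · -- stage `-1`
    have hjT : jj T = jj (S : Subgroup G) := MinSimple.EmptyTI.jj_eq S hT2 h0T
    have hX2 : ∀ X ∈ AA F, X ≤ T → X ≤ lev (S : Subgroup G) n := fun X hX hXT => by
      have h1 : X ≤ lev (S : Subgroup G) 0 := by
        have := le_jj (Swap.AA_of_le hX hXT hp.syl.1)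
        rwa [hjT] at this
      exact h1.trans (NO3S.Level.lev_mono _ (Nat.zero_le n))
    refine ⟨AA F, fun Λ hΛ hΛF hn _ => fm_AA hΛ hΛF hn, ?_, fun X hX hXT =>
      ((hX2 X hX hXT).trans (NO3S.Level.lev_mono _ (Nat.le_succ n))).trans (lb S n).KB, fun X hX hXT i hi => ?_⟩
    · by_contra hcon
      push Not at hcon
      apply hJ
      rw [← hjT, Cfsg.Agent.ZN.ChoiceBase.jj_eq]
      exact sSup_le fun X hX => hcon X (Swap.AA_of_syl hp.syl hX) hX.2.1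
    · obtain ⟨a, ha, x, hx, hne⟩ := hi
      exact absurd (h.comm_V (hX2 X hX hXT ha) (h.fr.WV i hx)) hne
  · -- stage `s`
    have hX := zc_elab (lev (S : Subgroup G) s)
    have hFN : F ≤ normalizer (zc (lev (S : Subgroup G) s) : Set G) :=
      (le_normalizer_o2 F).trans ((LB.lev S s).nrm _ (isPGroup_o2 F) hlow)
    have hlev : ∀ j, j ≤ n + 1 → lev T j = lev (S : Subgroup G) j := LevD.lev_eq S hT2 hKT
    have hVX := V_le_X h hs
    have hX1 : ∀ X ∈ BF F (zc (lev (S : Subgroup G) s)), X ≤ T → X ≤ lev (S : Subgroup G) (s + 1) :=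
      fun X hXA hXT => by
        rw [← hlev (s + 1) (by omega)]
        have e : lev T (s + 1) = nxt T (lev T s) := rfl
        rw [e, hlev s (by omega)]
        exact NO3S.Level.BO.le_nxt ⟨hXT, hXA.2.2⟩
    refine ⟨BF F (zc (lev (S : Subgroup G) s)), fun Λ hΛ hΛF hn hle => fm_best hX hFN ?_ hn, ?_,
      fun X hXA hXT => ((hX1 X hXA hXT).trans (NO3S.Level.lev_mono _ (by omega))).trans (lb S n).KB,
      fun X hXA hXT i hi => ?_⟩
    · refine hle.trans (NoFF.Basic.V_le fun f hf => ?_)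
      have h1 := cj_mono f hVX
      rwa [cj_eq_of_mem_normalizer (hFN hf)] at h1
    · by_contra hcon
      push Not at hcon
      apply hnle
      rw [← hlev (s + 1) (by omega)]
      have e : lev T (s + 1) = nxt T (lev T s) := rfl
      rw [e, hlev s (by omega)]
      have : Fact (Nat.Prime 2) := ⟨Nat.prime_two⟩
      have hNn : F ≤ normalizer ((F ⊓ centralizer (zc (lev (S : Subgroup G) s) : Set G) : Subgroup G) : Set G) := by
        intro f hf
        rw [mem_normalizer_iff_cj, cj_inf, cj_centralizer, cj_eq_of_mem_normalizer (hFN hf),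
          cj_eq_of_mem_normalizer (le_normalizer hf)]
      refine sup_le ?_ (sSup_le fun X hX' => hcon X ⟨hX'.1.trans hp.syl.1, hT2.to_le hX'.1, hX'.2⟩ hX'.1)
      rcases hmp.sup_eq_or_inf_le (p := 2) hT2 (syl_not_dvd hp.syl)
        (N := F ⊓ centralizer (zc (lev (S : Subgroup G) s) : Set G)) inf_le_left hNn with h1 | h1
      · exfalso
        apply hp.nM
        rw [← h1]
        refine sup_le ((inf_le_right.trans (centralizer_le ?_)).trans hD) hTM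
        exact_mod_cast h.fr.ZJV.trans hVX
      · refine le_trans (fun x hx => ?_) h1
        exact ⟨hx.1, hp.syl.1 hx.1, hx.2⟩
    · rcases hs.lt_or_eq with hlt | rfl
      · obtain ⟨a, ha, x, hx, hne⟩ := hi
        exact absurd (h.comm_V (NO3S.Level.lev_mono (S : Subgroup G) (by omega : s + 1 ≤ n) (hX1 X hXA hXT ha))
          (h.fr.WV i hx)) hne
      · refine SwapL.hat h.fr (((hX1 X hXA hXT)).trans (lb S s).KB) ?_ hi
        exact fun F' h1 h2 => hXA.2.2.max F' h2 h1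

/-- **The abstract frame at stage `n`.** -/
theorem crA (h : LnV S V Q n L W Z C A) :
    CrA S (lev (S : Subgroup G) (n + 1)) (BL (S : Subgroup G) n) V (ZL (S : Subgroup G) n) L W Z C A where
  lb := lb S n
  wc := wc S n
  zcS := (lev_isLev (S : Subgroup G) (n + 1)).zc_le
  zcB := h.fr.zcB
  blk := h.fr.blk
  cardZ := h.fr.cardZ
  el := h.fr.el
  VB := h.fr.VQ.trans h.fr.QB
  ZJV := h.fr.ZJV
  WV := h.fr.WV
  CV := h.fr.CV
  dir := h.fr.dir
  C0 := h.fr.C0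
  WjC := h.fr.WjC
  split := fun i _ hz => h.fr.split_ZJ i hz
  LC := h.fr.LC
  mov := fun i => by
    have h2 := h.fr.Ane i
    push Not at h2
    obtain ⟨a, ha, v, hv, hne⟩ := h2
    exact ⟨a, h.fr.AB i ha, ⟨v, hv, hne⟩, h.fr.AC i a ha⟩
  conjZ := fun r _ hx => SwapL.conj_ZJ h.fr r hx
  norm := fun _ hg => h.norm hg
  char2 := h.char2
  low := h.low
  noff := h.noff
  fixPt := fun T Y hq =>
    inf_le_right.trans (LevD.fixPt S hq.syl ((lb S n).KB.trans hq.BT) hq.min hq.nK hq.cz)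
  fam := fun _ _ _ hp hD hZM hTM => h.exists_fam hp hD hZM hTM
  WC := h.fr.WC
  AB := h.fr.AB
  Ane := h.fr.Ane
  AC := h.fr.AC
  fmem := fun _ hv hA => h.fr.mem_ZJ_of hv hA
  fnWr := fun _ _ hi _ hl _ hx => SwapL.nWr h.fr hi hl hx
  fstep := fun i _ hv => SwapL.step h.fr i hv
  fkeep := fun _ _ hij _ hl _ hv hj => SwapL.keep h.fr hij hl hv hj

end LnV

end Cfsg.Agent.Omega.OM.SwapV

end
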