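import Cfsg.Agent.Mrg.Omega.OM.Swap.End
import Cfsg.Agent.Mrg.Omega.OM.Swap.Facts
import Cfsg.Agent.Mrg.Omega.FF.GlobEnd


/-!
# THEOREM SW, stage `-1`, over an abstract line `V` (box R, bb #24115): unconditional forms

* `mf` : the module facts; **`le_char2`**, **`nonLoc`**, **`loc_le`**.
-/

set_option autoImplicit false

namespace Cfsg.Agent.Omega.OM.SwapV.NegMain

open Subgroup Cfsg Cfsg.Agent.ZN.ChoiceBase Cfsg.Agent.ZN.ChoiceSit
open Cfsg.Agent.ZN (jj zj bau zc zl o2)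
open Cfsg.Agent.Omega.OM.Dich (K0)
open Cfsg.Agent.Omega.OM.BlkGen (FBlk)
open Cfsg.Agent.Omega.OM.SwapV.NegPair (LineV)
open Cfsg.Agent.Omega.OM.Swap (MF)

universe u

variable {G : Type u} [Group G] [Finite G] {ι : Type} [Finite ι] {S : Sylow 2 G} {Q V : Subgroup G}
  {L W Z C A : ι → Subgroup G}

/-- the module facts -/
theorem mf (h : LineV S Q V L W Z C A 2) : MF (S : Subgroup G) L W Z where
  act := fun _ hX _ ha _ _ hx _ hz hz1 => Swap.act_AA h.fr hz hz1 hX ha hx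
  hat := fun _ hX _ hi => Swap.hat_AA h.fr hX hi
  conj := fun r x hx => by
    obtain ⟨g, hg, hgx⟩ := Swap.conj_ZJ h.fr r hx
    exact ⟨g, hg, (iSup₂_le fun i _ => h.fr.Z_le i : (⨆ i ∈ r, Z i) ≤ zj (S : Subgroup G)) hgx⟩

/-- **THEOREM SW** -/
theorem le_char2 (h : LineV S Q V L W Z C A 2) {M H : Subgroup G}
    (hK : K0 (S : Subgroup G) (FBlk (S : Subgroup G)) ≤ M) (hN : normalizer (bau (S : Subgroup G) : Set G) ≤ M)
    (hB : bau (S : Subgroup G) ≤ H) (hc : H ⊓ centralizer (o2 H : Set G) ≤ o2 H) : H ≤ M :=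
  NegPlug.le_of_char2 h (mf h) FF.Glob.ffthm FF.Glob.aStmt hK hN hB hc

/-- **THEOREM SW** for 2-local subgroups -/
theorem loc_le (h : LineV S Q V L W Z C A 2) {M H : Subgroup G}
    (hK : K0 (S : Subgroup G) (FBlk (S : Subgroup G)) ≤ M) (hN : normalizer (bau (S : Subgroup G) : Set G) ≤ M)
    (hB : bau (S : Subgroup G) ≤ H) (ho : o2 H ≠ ⊥) : H ≤ M :=
  (le_normalizer_o2 H).trans (le_char2 h hK hN (hB.trans (le_normalizer_o2 H))
    (self_cent h.ch ⟨o2 H, isPGroup_o2 H, ho, rfl⟩))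

/-- **(Om)**: if `K0` normalises a nontrivial 2-group, then `M = N_G(O₂(K0))` is local and contains everything of
characteristic 2 over `B`. -/
theorem nonLoc (h : LineV S Q V L W Z C A 2) {R : Subgroup G} (hR : IsPGroup 2 R) (hR1 : R ≠ ⊥)
    (hRK : K0 (S : Subgroup G) (FBlk (S : Subgroup G)) ≤ normalizer (R : Set G)) :
    ∃ M : Subgroup G, M = normalizer (o2 (K0 (S : Subgroup G) (FBlk (S : Subgroup G))) : Set G) ∧
      o2 (K0 (S : Subgroup G) (FBlk (S : Subgroup G))) ≠ ⊥ ∧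
      o2 (K0 (S : Subgroup G) (FBlk (S : Subgroup G))) ≤ bau (S : Subgroup G) ∧
      K0 (S : Subgroup G) (FBlk (S : Subgroup G)) ≤ M ∧
      centralizer (zj (S : Subgroup G) : Set G) ≤ M ∧ (∀ L V, FBlk (S : Subgroup G) L V → L ≤ M) ∧
      normalizer (bau (S : Subgroup G) : Set G) ≤ M ∧ (S : Subgroup G) ≤ M ∧
      ∀ H : Subgroup G, bau (S : Subgroup G) ≤ H → H ⊓ centralizer (o2 H : Set G) ≤ o2 H → H ≤ M :=
  NegPlug.nonLoc h (mf h) FF.Glob.ffthm FF.Glob.aStmt hR hR1 hRK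

/-- **(Om)**, 2-local subgroups. -/
theorem nonLoc_loc (h : LineV S Q V L W Z C A 2) {R : Subgroup G} (hR : IsPGroup 2 R) (hR1 : R ≠ ⊥)
    (hRK : K0 (S : Subgroup G) (FBlk (S : Subgroup G)) ≤ normalizer (R : Set G)) {H : Subgroup G}
    (hB : bau (S : Subgroup G) ≤ H) (ho : o2 H ≠ ⊥) :
    H ≤ normalizer (o2 (K0 (S : Subgroup G) (FBlk (S : Subgroup G))) : Set G) :=
  NegPlug.nonLoc_loc h (mf h) FF.Glob.ffthm FF.Glob.aStmt hR hR1 hRK hB ho

end Cfsg.Agent.Omega.OM.SwapV.NegMain
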